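import Cfsg.Agent.MQ.D
import Cfsg.Agent.H2.SS

/-! Piece A0: structure of the normalizer of `E`. -/

set_option autoImplicit false

namespace Cfsg.Agent.MQ

open Subgroup Cfsg.Agent.H9 Cfsg.Agent.L0
open scoped commutatorElement Pointwise

universe u

namespace A0x

variable {G : Type u} [Group G] [Finite G] {p : ℕ} [Fact p.Prime]

theorem mid {A M B : Subgroup G} {a : ℕ} (hA : Nat.card A = p ^ a) (hB : Nat.card B = p ^ (a + 1))
    (h1 : A ≤ M) (h2 : M ≤ B) : M = A ∨ M = B := by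
  have hp : p.Prime := Fact.out
  obtain ⟨j, hj, e⟩ := (Nat.dvd_prime_pow hp).1 (hB ▸ card_dvd_of_le h2)
  have h3 : p ^ a ∣ p ^ j := by rw [← hA, ← e]; exact card_dvd_of_le h1
  have h4 := (Nat.pow_dvd_pow_iff_le_right hp.one_lt).1 h3
  rcases (by omega : j = a ∨ j = a + 1) with r | r
  · left
    exact (eq_of_le_of_card_ge h1 (by rw [e, hA, r])).symm
  · right
    exact eq_of_le_of_card_ge h2 (by rw [e, hB, r])

theorem gen1 {A B : Subgroup G} {a : ℕ} (hA : Nat.card A = p ^ a) (hB : Nat.card B = p ^ (a + 1))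
    (h1 : A ≤ B) {x : G} (hx : x ∈ B) (hx' : x ∉ A) : A ⊔ zpowers x = B := by
  rcases mid hA hB le_sup_left (sup_le h1 (zpowers_le.2 hx)) with r | r
  · exact absurd (r ▸ (le_sup_right : zpowers x ≤ A ⊔ zpowers x) (mem_zpowers x)) hx'
  · exact r

omit [Finite G] in
theorem dec {A B : Subgroup G} (h : B ≤ normalizer (A : Set G)) {x : G} (hx : x ∈ A ⊔ B) :
    ∃ a ∈ A, ∃ b ∈ B, a * b = x := by
  have : x ∈ ((A ⊔ B : Subgroup G) : Set G) := hx
  rw [coe_mul_of_right_le_normalizer_left A B h] at this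
  exact Set.mem_mul.1 this

theorem triv (hG : IsPGroup p G) {A B : Subgroup G} {a : ℕ} (hA : Nat.card A = p ^ a)
    (hB : Nat.card B = p ^ (a + 1)) (h1 : A ≤ B) (h2 : B ≤ normalizer (A : Set G)) {m : G}
    (mA : m ∈ normalizer (A : Set G)) (mB : m ∈ normalizer (B : Set G)) {b : G} (hb : b ∈ B) :
    b⁻¹ * (m * b * m⁻¹) ∈ A := by
  have hp : p.Prime := Fact.out
  set L : Subgroup G := normalizer (A : Set G) ⊓ normalizer (B : Set G) with hL
  have BL : B ≤ L := le_inf h2 le_normalizer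
  haveI nA : (A.subgroupOf L).Normal :=
    (normal_subgroupOf_iff_le_normalizer (h1.trans BL)).2 inf_le_left
  haveI nB : (B.subgroupOf L).Normal := (normal_subgroupOf_iff_le_normalizer BL).2 inf_le_right
  set π := QuotientGroup.mk' (A.subgroupOf L) with hπ
  haveI nB' : ((B.subgroupOf L).map π).Normal := nB.map _ (QuotientGroup.mk'_surjective _)
  haveI : Group.IsNilpotent (L ⧸ A.subgroupOf L) :=
    ((hG.to_subgroup L).to_quotient _).isNilpotent
  have hne : ¬ B ≤ A := fun hle => by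
    have := card_le_of_le hle
    rw [hA, hB] at this
    have := (Nat.pow_le_pow_iff_right hp.one_lt).1 this
    omega
  have h3 : (B.subgroupOf L).map π ≠ ⊥ := fun h0 => hne fun x hx => by
    have : π ⟨x, BL hx⟩ ∈ (B.subgroupOf L).map π := mem_map_of_mem _ hx
    rw [h0, mem_bot] at this
    exact (QuotientGroup.eq_one_iff (N := A.subgroupOf L) _).1 this
  obtain ⟨⟨z, hz⟩, hz1⟩ := (Subgroup.ne_bot_iff_exists_ne_one).1 (H2.inf_center_ne_bot _ h3)
  obtain ⟨⟨b0, hb0L⟩, hb0, rfl⟩ := hz.1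
  set W : Subgroup G := ((center (L ⧸ A.subgroupOf L)).comap π).map L.subtype ⊓ B with hW
  have hAW : A ≤ W := fun x hx => ⟨⟨⟨x, BL (h1 hx)⟩, by
    have : π ⟨x, BL (h1 hx)⟩ = 1 := (QuotientGroup.eq_one_iff (N := A.subgroupOf L) _).2 hx
    show π _ ∈ center _
    rw [this]; exact one_mem _, rfl⟩, h1 hx⟩
  rcases mid hA hB hAW inf_le_right with r | r
  · exfalso
    apply hz1
    have : b0 ∈ W := ⟨⟨⟨b0, hb0L⟩, hz.2, rfl⟩, hb0⟩
    rw [r] at this
    exact Subtype.ext ((QuotientGroup.eq_one_iff (N := A.subgroupOf L) _).2 this)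
  · have : b ∈ W := r.symm ▸ hb
    obtain ⟨⟨b', hb', rfl⟩, -⟩ := this
    have hc := mem_center_iff.1 hb' (π ⟨m, mA, mB⟩)
    have : π (b'⁻¹ * (⟨m, mA, mB⟩ * b' * (⟨m, mA, mB⟩ : L)⁻¹)) = 1 := by
      rw [map_mul, map_mul, map_mul, hc, map_inv, map_inv]; group
    exact (QuotientGroup.eq_one_iff (N := A.subgroupOf L) _).1 this

/-- preimage under `τ` -/
def Pre {P : Subgroup G} {τ : G → G} (hom : ∀ x ∈ P, ∀ y ∈ P, τ (x * y) = τ x * τ y)
    (X : Subgroup G) : Subgroup G where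
  carrier := {x | x ∈ P ∧ τ x ∈ X}
  one_mem' := ⟨one_mem _, by
    have := hom 1 (one_mem _) 1 (one_mem _)
    rw [mul_one] at this
    rw [left_eq_mul.1 this]; exact one_mem _⟩
  mul_mem' := fun {x y} hx hy => ⟨mul_mem hx.1 hy.1, by
    rw [hom x hx.1 y hy.1]; exact mul_mem hx.2 hy.2⟩
  inv_mem' := fun {x} hx => ⟨inv_mem hx.1, by
    have h1 := hom 1 (one_mem _) 1 (one_mem _)
    rw [mul_one] at h1
    have h2 := hom x hx.1 x⁻¹ (inv_mem hx.1)
    rw [mul_inv_cancel, left_eq_mul.1 h1] at h2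
    rw [eq_inv_of_mul_eq_one_right h2.symm]; exact inv_mem hx.2⟩

/-- elements whose commutator with `y` lies in a central subgroup -/
def Tc (N Z : Subgroup G) (hZ : ∀ z ∈ Z, ∀ x ∈ N, z * x = x * z) (y : G) : Subgroup G where
  carrier := {x | x ∈ N ∧ ⁅x, y⁆ ∈ Z}
  one_mem' := ⟨one_mem _, by simp [one_mem]⟩
  mul_mem' := fun {x x'} hx hx' => ⟨mul_mem hx.1 hx'.1, by
    rw [show ⁅x * x', y⁆ = x * ⁅x', y⁆ * x⁻¹ * ⁅x, y⁆ by simp only [commutatorElement_def]; group,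
      ← hZ _ hx'.2 x hx.1, mul_inv_cancel_right]
    exact mul_mem hx'.2 hx.2⟩
  inv_mem' := fun {x} hx => ⟨inv_mem hx.1, by
    rw [show ⁅x⁻¹, y⁆ = x⁻¹ * (⁅x, y⁆⁻¹ * x) by simp only [commutatorElement_def]; group,
      hZ _ (inv_mem hx.2) x hx.1, inv_mul_cancel_left]
    exact inv_mem hx.2⟩

end A0x

open A0x

theorem a0 {G : Type u} [Group G] [Finite G] {p n : ℕ} [Fact p.Prime] {E P : Subgroup G}
    {τ : G → G} {v1 w v2 u : G} (h : MaxClass p n G) (_hp : 5 ≤ p) (d : Dt p E P τ v1 w v2 u)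
    (hn : 5 ≤ n) : A0 p E τ v1 w := by
  have hp : p.Prime := Fact.out
  have hG : IsPGroup p G := IsPGroup.of_card h.card
  set N : Subgroup G := normalizer (E : Set G) with hN
  set E0 : Subgroup G := closure ({v1, w} : Set G) with hE0
  have EN : E ≤ N := le_normalizer
  have ab : ∀ x ∈ E, ∀ y ∈ E, x * y = y * x := fun x hx y hy => (d.cen y).1 hy x hx
  have m1 : v1 ∈ E := d.gen ▸ subset_closure (by simp)
  have mw : w ∈ E := d.gen ▸ subset_closure (by simp)
  have m2 : v2 ∈ E := d.gen ▸ subset_closure (by simp)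
  have z1 : v1 ∈ E0 := subset_closure (by simp)
  have zw : w ∈ E0 := subset_closure (by simp)
  have E0le : ∀ K : Subgroup G, v1 ∈ K → w ∈ K → E0 ≤ K := fun K a b => by
    rw [hE0, closure_le]
    rintro x (rfl | rfl)
    exacts [a, b]
  have Ele : ∀ K : Subgroup G, v1 ∈ K → w ∈ K → v2 ∈ K → E ≤ K := fun K a b c => by
    rw [d.gen, closure_le]
    rintro x (rfl | rfl | rfl)
    exacts [a, b, c]
  have E0E : E0 ≤ E := E0le E m1 mw
  have hv1 : v1 ≠ 1 := fun e => d.uE ((d.cen u).2 fun x hx => by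
    have : E ≤ centralizer ({u} : Set G) := Ele _ (mem_centralizer_singleton_iff.2 d.c2)
      (mem_centralizer_singleton_iff.2 d.c3) (mem_centralizer_singleton_iff.2
        (commutatorElement_eq_one_iff_mul_comm.1 (d.c1.trans e)))
    exact mem_centralizer_singleton_iff.1 (this hx))
  have Nle : ∀ x ∈ N, x ∉ E → ∀ K : Subgroup G, E ≤ K → x ∈ K → N ≤ K := fun x hx hx' K a b => by
    exact (gen1 d.cE d.cN EN hx hx').symm.le.trans (sup_le a (zpowers_le.2 b))
  have cN : ∀ z ∈ E, ∀ x ∈ N, x ∉ E → z * x = x * z → ∀ y ∈ N, z * y = y * z :=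
    fun z hz x hx hx' e y hy => by
      have : N ≤ centralizer ({z} : Set G) := Nle x hx hx' _
        (fun t ht => mem_centralizer_singleton_iff.2 (ab t ht z hz))
        (mem_centralizer_singleton_iff.2 e.symm)
      exact (mem_centralizer_singleton_iff.1 (this hy)).symm
  have E0c : ∀ z ∈ E0, ∀ y ∈ N, z * y = y * z := fun z hz y hy => by
    have : E0 ≤ centralizer ({y} : Set G) := E0le _
      (mem_centralizer_singleton_iff.2 (cN v1 m1 u d.uN d.uE d.c2 y hy))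
      (mem_centralizer_singleton_iff.2 (cN w mw u d.uN d.uE d.c3 y hy))
    exact mem_centralizer_singleton_iff.1 (this hz)
  have v2c : v2 * u ≠ u * v2 := fun e =>
    hv1 (d.c1.symm.trans (commutatorElement_eq_one_iff_mul_comm.2 e))
  have v2E0 : v2 ∉ E0 := fun e => v2c (E0c v2 e u d.uN)
  have NE0 : N ≤ normalizer (E0 : Set G) := fun y hy => by
    rw [mem_normalizer_iff]
    intro z
    constructor
    · intro hz
      rwa [← E0c z hz y hy, mul_inv_cancel_right]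
    · intro hz
      have := E0c _ hz y hy
      rw [inv_mul_cancel_right] at this
      have h2 : z = y * z * y⁻¹ := mul_left_cancel this
      rwa [h2]
  have cE0 : Nat.card E0 = p ^ 2 := by
    obtain ⟨j, hj, e⟩ := (Nat.dvd_prime_pow hp).1 (d.cE ▸ card_dvd_of_le E0E)
    have h3 : j ≠ 3 := fun r => v2E0 (by
      have : E0 = E := eq_of_le_of_card_ge E0E (by rw [e, d.cE, r])
      rwa [this])
    have h4 : E = E0 ⊔ zpowers v2 := le_antisymm
      (Ele _ (mem_sup_left z1) (mem_sup_left zw) (mem_sup_right (mem_zpowers _)))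
      (sup_le E0E (zpowers_le.2 m2))
    have h5 : Nat.card E ≤ Nat.card E0 * Nat.card (zpowers v2) := by
      have h6 : ((E0 ⊔ zpowers v2 : Subgroup G) : Set G) = (E0 : Set G) * (zpowers v2 : Set G) :=
        coe_mul_of_right_le_normalizer_left _ _ ((zpowers_le.2 (EN m2)).trans NE0)
      have h7 : Nat.card E = Nat.card ((E0 : Set G) * (zpowers v2 : Set G) : Set G) := by
        rw [← h6, ← h4]; rfl
      rw [h7]
      exact Set.natCard_mul_le
    have h8 : Nat.card (zpowers v2) ≤ p := by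
      rw [Nat.card_zpowers]
      exact Nat.le_of_dvd hp.pos (orderOf_dvd_of_pow_eq_one (d.ex v2 m2))
    have h9 : p ^ 3 ≤ p ^ (j + 1) := by
      rw [← d.cE, pow_succ, ← e]
      exact h5.trans (Nat.mul_le_mul_left _ h8)
    have := (Nat.pow_le_pow_iff_right hp.one_lt).1 h9
    rw [e, show j = 2 by omega]
  have zN : ∀ x, x ∈ E0 ↔ x ∈ N ∧ ∀ y ∈ N, x * y = y * x := fun x => by
    refine ⟨fun hx => ⟨EN (E0E hx), E0c x hx⟩, fun hx => ?_⟩
    have hxE : x ∈ E := (d.cen x).2 fun y hy => (hx.2 y (EN hy)).symm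
    by_contra hx0
    have h1 := gen1 cE0 d.cE E0E hxE hx0
    have h2 : E ≤ centralizer ({u} : Set G) := by
      rw [← h1]
      exact sup_le (fun z hz => mem_centralizer_singleton_iff.2 (E0c z hz u d.uN))
        (zpowers_le.2 (mem_centralizer_singleton_iff.2 (hx.2 u d.uN)))
    exact v2c (mem_centralizer_singleton_iff.1 (h2 m2))
  have cm : ⁅N, N⁆ = zpowers v1 := by
    apply le_antisymm
    · have hZ : ∀ z ∈ zpowers v1, ∀ x ∈ N, z * x = x * z := fun z hz =>
        E0c z ((zpowers_le.2 z1) hz)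
      have one : ∀ {x y : G}, x * y = y * x → ⁅x, y⁆ ∈ zpowers v1 := fun e => by
        rw [commutatorElement_eq_one_iff_mul_comm.2 e]; exact one_mem _
      have sw : ∀ {x y : G}, ⁅x, y⁆ ∈ zpowers v1 → ⁅y, x⁆ ∈ zpowers v1 := fun e => by
        rw [← commutatorElement_inv]; exact inv_mem e
      have tu : N ≤ Tc N _ hZ u := Nle u d.uN d.uE _
        (Ele _ ⟨EN m1, one d.c2⟩ ⟨EN mw, one d.c3⟩ ⟨EN m2, by rw [d.c1]; exact mem_zpowers _⟩)
        ⟨d.uN, one rfl⟩
      have te : ∀ y ∈ E, N ≤ Tc N _ hZ y := fun y hy => Nle u d.uN d.uE _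
        (fun x hx => ⟨EN hx, one (ab x hx y hy)⟩) ⟨d.uN, sw (tu (EN hy)).2⟩
      rw [commutator_le]
      intro x hx y hy
      have : N ≤ Tc N _ hZ y := Nle u d.uN d.uE _
        (fun t ht => ⟨EN ht, sw (te t ht hy).2⟩) ⟨d.uN, sw (tu hy).2⟩
      exact (this hx).2
    · rw [zpowers_le, ← d.c1]
      exact commutator_mem_commutator (EN m2) d.uN
  have EP : E ≤ P := EN.trans d.NP
  have iE : Inv τ E := fun x hx => ((Ele (Pre d.hom E) ⟨EP m1, d.t1 ▸ inv_mem m1⟩
    ⟨EP mw, d.tw.symm ▸ mw⟩ ⟨EP m2, d.t2 ▸ inv_mem m2⟩) hx).2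
  have iE0 : Inv τ E0 := fun x hx => ((E0le (Pre d.hom E0) ⟨EP m1, d.t1 ▸ inv_mem z1⟩
    ⟨EP mw, d.tw.symm ▸ zw⟩) hx).2
  have iN : Inv τ N := fun x hx => ((Nle u d.uN d.uE (Pre d.hom N)
    (fun y hy => ⟨EP hy, EN (iE y hy)⟩) ⟨d.NP d.uN, by
      have := mul_mem d.uN (EN d.tu)
      rwa [mul_inv_cancel_left] at this⟩) hx).2
  have Nlt : N < normalizer (N : Set G) := by
    haveI := hG.isNilpotent
    apply Group.normalizerCondition_of_isNilpotent
    rw [lt_top_iff_ne_top]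
    intro e
    have h1 := d.cN
    rw [← hN, e, card_top, h.card] at h1
    have := Nat.pow_right_injective hp.two_le h1
    omega
  obtain ⟨m, mN, mN'⟩ := SetLike.exists_of_lt Nlt
  have cjN : ∀ g ∈ normalizer (N : Set G), ∀ y ∈ N, g * y * g⁻¹ ∈ N := fun g hg y hy =>
    (mem_normalizer_iff.1 hg y).1 hy
  have cjE0 : ∀ g ∈ normalizer (N : Set G), ∀ z ∈ E0, g * z * g⁻¹ ∈ E0 := fun g hg z hz => by
    refine (zN _).2 ⟨cjN g hg z (EN (E0E hz)), fun y hy => ?_⟩
    have := E0c z hz _ (cjN g⁻¹ (inv_mem hg) y hy)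
    calc g * z * g⁻¹ * y = g * (z * (g⁻¹ * y * g⁻¹⁻¹)) * g⁻¹ := by group
      _ = _ := by rw [this]; group
  have mE : ¬ ∀ e ∈ E, m * e * m⁻¹ ∈ E := fun hh => mN' (mem_normalizer_fintype hh)
  refine ⟨cE0, zN, cm, hv1, iE, iN, iE0, ⟨m, mN, mN'⟩, fun Y hY YE y hy => ?_,
    fun X XN E0X cX NX => ?_⟩
  · push Not at mE
    obtain ⟨e, he, he'⟩ := mE
    refine (zN y).2 ⟨EN (YE hy), cN y (YE hy) _ (cjN m mN e (EN he)) he' ?_⟩
    have := ab _ (YE (hY.conj_mem y hy m⁻¹)) e he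
    calc y * (m * e * m⁻¹) = m * (m⁻¹ * y * m⁻¹⁻¹ * e) * m⁻¹ := by group
      _ = _ := by rw [this]; group
  · have XE : X ≠ E := fun e => mN' (by have := NX mN; rwa [e] at this)
    have nXE : ¬ X ≤ E := fun e => XE (eq_of_le_of_card_ge e (by rw [cX, d.cE]))
    obtain ⟨x, hx, hx'⟩ := SetLike.not_le_iff_exists.1 nXE
    have hX := gen1 cE0 cX E0X hx (fun e => hx' (E0E e))
    suffices hs : τ x ∈ X by
      intro y hy
      have : X ≤ Pre d.hom X := by
        rw [← hX]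
        refine sup_le (fun z hz => ⟨EP (E0E hz), ?_⟩) (zpowers_le.2 ⟨d.NP (XN hx), ?_⟩)
        · exact mem_sup_left (iE0 z hz)
        · rw [hX]; exact hs
      exact (this hy).2
    by_contra hs
    have mE0 : m ∈ normalizer (E0 : Set G) := mem_normalizer_fintype (cjE0 m mN)
    have hEX : N ≤ E ⊔ X := Nle x (XN hx) hx' _ le_sup_left (mem_sup_right hx)
    obtain ⟨e, he, z, hz, ez⟩ := dec XN (hEX (iN x (XN hx)))
    have eE0 : e ∉ E0 := fun r => hs (ez ▸ mul_mem (E0X r) hz)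
    have hd : e⁻¹ * (m * e * m⁻¹) ∈ X :=
      triv hG cX d.cN XN (le_normalizer.trans NX) (NX mN) mN (EN he)
    set c := e⁻¹ * (m * e * m⁻¹) with hc
    have cE0' : c ∉ E0 := fun r => mE (by
      have h1 := gen1 cE0 d.cE E0E he eE0
      have h2 : E ≤ E.comap (MulAut.conj m).toMonoidHom := by
        conv_lhs => rw [← h1]
        refine sup_le (fun t ht => E0E (cjE0 m mN t ht)) (zpowers_le.2 ?_)
        have := mul_mem he (E0E r)
        rw [hc, mul_inv_cancel_left] at this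
        exact this
      exact fun t ht => h2 ht)
    have hc' : c⁻¹ * (m * c * m⁻¹) ∈ E0 := triv hG cE0 cX E0X (XN.trans NE0) mE0 (NX mN) hd
    have key : ∀ k : ℕ, (e * c ^ k)⁻¹ * (m ^ k * e * (m ^ k)⁻¹) ∈ E0 := by
      intro k
      induction k with
      | zero => simp [one_mem]
      | succ k ih =>
        have h1 := cjE0 m mN _ ih
        have h2 : Commute c (c⁻¹ * (m * c * m⁻¹)) := (E0c _ hc' c (XN hd)).symm
        have h3 : (m * c * m⁻¹) ^ k = c ^ k * (c⁻¹ * (m * c * m⁻¹)) ^ k := by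
          rw [← h2.mul_pow, mul_inv_cancel_left]
        have h4 : m * e * m⁻¹ = e * c := by rw [hc, mul_inv_cancel_left]
        have h5 : m * (e * c ^ k) * m⁻¹ = e * c ^ (k + 1) * (c⁻¹ * (m * c * m⁻¹)) ^ k := by
          calc m * (e * c ^ k) * m⁻¹ = (m * e * m⁻¹) * (m * c * m⁻¹) ^ k := by
                rw [conj_pow]; group
            _ = _ := by rw [h4, h3, pow_succ']; group
        have h6 : (e * c ^ (k + 1))⁻¹ * (m ^ (k + 1) * e * (m ^ (k + 1))⁻¹) =
            (c⁻¹ * (m * c * m⁻¹)) ^ k *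
              (m * ((e * c ^ k)⁻¹ * (m ^ k * e * (m ^ k)⁻¹)) * m⁻¹) := by
          calc (e * c ^ (k + 1))⁻¹ * (m ^ (k + 1) * e * (m ^ (k + 1))⁻¹)
              = (e * c ^ (k + 1))⁻¹ * (m * (e * c ^ k) * m⁻¹) *
                (m * ((e * c ^ k)⁻¹ * (m ^ k * e * (m ^ k)⁻¹)) * m⁻¹) := by
                  rw [pow_succ' m]; group
            _ = _ := by rw [h5, inv_mul_cancel_left]
        rw [h6]
        exact mul_mem (pow_mem hc' k) h1
    have hXc := gen1 cE0 cX E0X hd cE0'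
    obtain ⟨a, ha, b, hb, ab'⟩ := dec ((zpowers_le.2 (XN hd)).trans NE0) (hXc.symm ▸ hz :
      z ∈ E0 ⊔ zpowers c)
    obtain ⟨k, rfl⟩ := (mem_powers_iff_mem_zpowers.2 hb)
    have gN : m ^ k ∈ normalizer (N : Set G) := pow_mem mN k
    have hτ : (m ^ k)⁻¹ * τ x * m ^ k ∈ E := by
      have h1 := cjE0 _ (inv_mem gN) _ (mul_mem (inv_mem (key k)) ha)
      have h2 : a * c ^ k = c ^ k * a := E0c a ha _ (pow_mem (XN hd) k)
      have h3 : (m ^ k)⁻¹ * τ x * m ^ k = e * ((m ^ k)⁻¹ *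
          (((e * c ^ k)⁻¹ * (m ^ k * e * (m ^ k)⁻¹))⁻¹ * a) * (m ^ k)⁻¹⁻¹) := by
        rw [← ez, ← ab']
        show (m ^ k)⁻¹ * (e * (a * c ^ k)) * m ^ k = _
        rw [h2]; group
      rw [h3]
      exact mul_mem he (E0E h1)
    set Ek : Subgroup G := E.comap (MulAut.conj (m ^ k)⁻¹).toMonoidHom with hEk
    have mEk : ∀ t, t ∈ Ek ↔ (m ^ k)⁻¹ * t * m ^ k ∈ E := fun t => by
      rw [hEk, mem_comap]
      show (m ^ k)⁻¹ * t * (m ^ k)⁻¹⁻¹ ∈ E ↔ _
      rw [inv_inv]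
    have h1 : X ≤ Pre d.hom Ek := by
      rw [← hX]
      refine sup_le (fun t ht => ⟨EP (E0E ht), (mEk _).2 ?_⟩)
        (zpowers_le.2 ⟨d.NP (XN hx), (mEk _).2 hτ⟩)
      have := cjE0 _ (inv_mem gN) _ (iE0 t ht)
      rw [inv_inv] at this
      exact E0E this
    have h2 : Nat.card (Pre d.hom Ek) ≤ Nat.card X := by
      rw [cX, ← d.cE]
      refine Nat.card_le_card_of_injective
        (fun t => (⟨(m ^ k)⁻¹ * τ t.1 * m ^ k, (mEk _).1 t.2.2⟩ : E)) fun t t' ht => ?_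
      have h3 : (m ^ k)⁻¹ * τ t.1 * m ^ k = (m ^ k)⁻¹ * τ t'.1 * m ^ k := congrArg Subtype.val ht
      exact Subtype.ext (d.inj _ t.2.1 _ t'.2.1 (mul_left_cancel (mul_right_cancel h3)))
    have h3 : X = Pre d.hom Ek := eq_of_le_of_card_ge h1 h2
    have h4 := d.fn X (m ^ k) (fun t => by
      rw [← mEk]
      conv_lhs => rw [h3]
      rfl) (fun y hy => d.NP (cjN _ gN y (EN hy)))
    have h5 : N = normalizer (N : Set G) := eq_of_le_of_card_ge Nlt.le
      (((card_le_of_le NX).trans h4).trans (le_of_eq d.cN.symm))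
    exact Nlt.ne h5

end Cfsg.Agent.MQ
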