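import Cfsg.Agent.MX.BL
import Cfsg.Agent.MX.A
import Cfsg.Agent.L0.Ess

/-! Data for elementary abelian essential subgroups of order `p ^ 3` in groups of maximal class. -/

set_option autoImplicit false

namespace Cfsg.Agent.MQ

open Subgroup Cfsg.Agent.H9 Cfsg.Agent.L0
open scoped commutatorElement

variable {G : Type*} [Group G]

/-- `X` is invariant under `τ` -/
def Inv (τ : G → G) (X : Subgroup G) : Prop := ∀ x ∈ X, τ x ∈ X

/-- the data -/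
structure Dt (p : ℕ) (E P : Subgroup G) (τ : G → G) (v1 w v2 u : G) : Prop where
  hom : ∀ x ∈ P, ∀ y ∈ P, τ (x * y) = τ x * τ y
  inj : ∀ x ∈ P, ∀ y ∈ P, τ x = τ y → x = y
  mem : Inv τ P
  cE : Nat.card E = p ^ 3
  ex : ∀ x ∈ E, x ^ p = 1
  cen : ∀ g, g ∈ E ↔ ∀ x ∈ E, x * g = g * x
  cN : Nat.card (normalizer (E : Set G)) = p ^ 4
  NP : normalizer (E : Set G) ≤ P
  gen : E = closure {v1, w, v2}
  uN : u ∈ normalizer (E : Set G)
  uE : u ∉ E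
  c1 : ⁅v2, u⁆ = v1
  c2 : v1 * u = u * v1
  c3 : w * u = u * w
  t1 : τ v1 = v1⁻¹
  t2 : τ v2 = v2⁻¹
  tw : τ w = w
  tu : u⁻¹ * τ u ∈ E
  fn : ∀ (X : Subgroup G) (g : G), (∀ x, x ∈ X ↔ x ∈ P ∧ g⁻¹ * τ x * g ∈ E) →
    (∀ y ∈ E, g * y * g⁻¹ ∈ P) → Nat.card (normalizer (X : Set G)) ≤ p ^ 4

/-- an invariant chain with factors of order at most `p` -/
def Chn (p : ℕ) (P : Subgroup G) (τ : G → G) : Prop :=
  ∃ (c : ℕ → Subgroup G) (k : ℕ), c 0 = P ∧ c k = ⊥ ∧ ∀ i, c (i + 1) ≤ c i ∧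
    Nat.card (c i) ≤ p * Nat.card (c (i + 1)) ∧ Inv τ (c i) ∧
    normalizer (P : Set G) ≤ normalizer (c i : Set G)

/-- the statement of piece A0 -/
def A0 (p : ℕ) (E : Subgroup G) (τ : G → G) (v1 w : G) : Prop :=
  Nat.card (closure ({v1, w} : Set G)) = p ^ 2 ∧
  (∀ x, x ∈ closure ({v1, w} : Set G) ↔
    x ∈ normalizer (E : Set G) ∧ ∀ y ∈ normalizer (E : Set G), x * y = y * x) ∧
  ⁅normalizer (E : Set G), normalizer (E : Set G)⁆ = zpowers v1 ∧ v1 ≠ 1 ∧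
  Inv τ E ∧ Inv τ (normalizer (E : Set G)) ∧ Inv τ (closure ({v1, w} : Set G)) ∧
  (∃ m ∈ normalizer (normalizer (E : Set G) : Set G), m ∉ normalizer (E : Set G)) ∧
  (∀ Y : Subgroup G, Y.Normal → Y ≤ E → Y ≤ closure ({v1, w} : Set G)) ∧
  ∀ X : Subgroup G, X ≤ normalizer (E : Set G) → closure ({v1, w} : Set G) ≤ X →
    Nat.card X = p ^ 3 → normalizer (normalizer (E : Set G) : Set G) ≤ normalizer (X : Set G) →
    Inv τ X

/-- structure in the case `Z₂ ≤ E`, `6 ≤ n` -/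
structure SA (n : ℕ) (E : Subgroup G) (τ : G → G) (v1 w v2 : G) : Prop where
  e1 : v2 ∉ tsc G 1
  e2 : v2 ∈ tsc G (n - 3)
  z2 : closure ({v1, w} : Set G) = gam G (n - 3)
  vz : v1 ∉ gam G (n - 2)
  nE : normalizer (E : Set G) = gam G (n - 4) ⊔ zpowers v2
  i4 : Inv τ (gam G (n - 4))
  i3 : Inv τ (gam G (n - 3))
  wy : ∃ y ∈ gam G (n - 4), y ∉ gam G (n - 3) ∧ y⁻¹ * τ y ∈ gam G (n - 3)

end Cfsg.Agent.MQ
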