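import Cfsg.Agent.MQ.D
import Cfsg.Agent.L0.FEss
import Cfsg.Agent.L0.FOl
import Cfsg.Agent.H23.PIdx

/-! Fusion data: transport, extension. -/

set_option autoImplicit false

namespace Cfsg.Agent.MQ

open Subgroup Equiv Cfsg.FusionSystem Cfsg.Agent.H23 Cfsg.Agent.H23.LF
open scoped commutatorElement

variable {Ω : Type*} [Group Ω] {S : Subgroup Ω} {p : ℕ} {F : FusionSystem S} {E P R : Subgroup Ω}
  {τ θ : Perm Ω} {v1 w v2 u : Ω}

/-- fusion version of the data -/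
structure FD (p : ℕ) (F : FusionSystem S) (E P : Subgroup Ω) (τ : Perm Ω) (v1 w v2 u : Ω) : Prop where
  cc : F.IsCentric E
  fnE : F.IsFullyNormalized E
  PS : P ≤ S
  aut : τ ∈ AutF F P
  cE : Nat.card E = p ^ 3
  ex : ∀ x ∈ E, x ^ p = 1
  ab : ∀ x ∈ E, ∀ y ∈ E, x * y = y * x
  cN : Nat.card (normalizerIn S E) = p ^ 4
  NP : normalizerIn S E ≤ P
  gen : E = closure {v1, w, v2}
  uN : u ∈ normalizerIn S E
  uE : u ∉ E
  c1 : ⁅v2, u⁆ = v1
  c2 : v1 * u = u * v1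
  c3 : w * u = u * w
  t1 : τ v1 = v1⁻¹
  t2 : τ v2 = v2⁻¹
  tw : τ w = w
  tu : u⁻¹ * τ u ∈ E

theorem im_cl3 {Ω' : Type*} [Group Ω'] {f : Ω → Ω'} {a b c : Ω} (h : HomOn (closure {a, b, c}) f) :
    im f (closure {a, b, c}) = closure {f a, f b, f c} := by
  apply le_antisymm
  · refine im_le_iff.2 fun x hx => ?_
    induction hx using closure_induction with
    | mem x hx => rcases hx with rfl | rfl | rfl <;> exact subset_closure (by simp)
    | one => rw [h.map_one]; exact one_mem _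
    | mul x y hx hy a b => rw [h.map_mul hx hy]; exact mul_mem a b
    | inv x hx a => rw [h.map_inv hx]; exact inv_mem a
  · rw [closure_le]
    rintro x (rfl | rfl | rfl) <;> exact mem_im_of_mem f (subset_closure (by simp))

namespace FD

variable (d : FD p F E P τ v1 w v2 u)
include d

theorem EP : E ≤ P := (le_nIn d.cc.1).trans d.NP
theorem m1 : v1 ∈ E := d.gen ▸ subset_closure (by simp)
theorem mw : w ∈ E := d.gen ▸ subset_closure (by simp)
theorem m2 : v2 ∈ E := d.gen ▸ subset_closure (by simp)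

variable [Finite S]

theorem conj (h : Mor F P θ) :
    FD p F (im θ E) (im θ P) (θ * τ * θ⁻¹) (θ v1) (θ w) (θ v2) (θ u) := by
  have H := h.homOn
  have hE := h.mono d.EP
  obtain ⟨a, b⟩ := fn_of_nIn d.fnE (h.mono d.NP)
  have uP := d.NP d.uN
  have e : ∀ x, (θ * τ * θ⁻¹) (θ x) = θ (τ x) := fun x => by simp
  refine ⟨hE.centric_im d.cc, a, h.im_le, ?_, hE.card_im.trans d.cE, ?_, ?_, ?_, b ▸ im_mono θ d.NP,
    ?_, b ▸ mem_im_of_mem θ d.uN, fun c => d.uE (hE.homOn.apply_mem_im_iff.1 c), ?_, ?_, ?_, ?_, ?_,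
    ?_, ?_⟩
  · have h1 : Mor F (im θ P) ⇑(τ * θ⁻¹) :=
      h.inv.mul (autF_mor d.PS d.aut) fun x hx => H.mem_im_perm.1 hx
    have h2 : Mor F (im θ P) ⇑(θ * (τ * θ⁻¹)) :=
      h1.mul h fun x hx => autF_mem d.aut (H.mem_im_perm.1 hx)
    rw [mul_assoc]
    exact h2.mem_autF' fun x hx => mem_im_of_mem θ (autF_mem d.aut (H.mem_im_perm.1 hx))
  · intro x hx
    obtain ⟨y, hy, rfl⟩ := hE.homOn.mem_im.1 hx
    rw [← hE.homOn.map_pow hy, d.ex y hy, H.map_one]
  · intro x hx y hy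
    obtain ⟨x', hx', rfl⟩ := hE.homOn.mem_im.1 hx
    obtain ⟨y', hy', rfl⟩ := hE.homOn.mem_im.1 hy
    rw [← hE.homOn.map_mul hx' hy', ← hE.homOn.map_mul hy' hx', d.ab x' hx' y' hy']
  · rw [← b, (h.mono d.NP).card_im, d.cN]
  · conv_lhs => rw [d.gen]
    exact im_cl3 (d.gen ▸ hE.homOn)
  · rw [commutatorElement_def, ← H.map_comm (d.EP d.m2) uP, ← d.c1, commutatorElement_def]
  · rw [← H.map_mul (d.EP d.m1) uP, ← H.map_mul uP (d.EP d.m1), d.c2]
  · rw [← H.map_mul (d.EP d.mw) uP, ← H.map_mul uP (d.EP d.mw), d.c3]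
  · rw [e, d.t1, H.map_inv (d.EP d.m1)]
  · rw [e, d.t2, H.map_inv (d.EP d.m2)]
  · rw [e, d.tw]
  · rw [e, ← H.map_inv uP, ← H.map_mul (inv_mem uP) (autF_mem d.aut uP)]
    exact mem_im_of_mem θ d.tu

omit [Finite S] in
theorem up {σ : Perm Ω} (hR : P ≤ R) (hS : R ≤ S) (h : σ ∈ AutF F R) (e : ∀ x ∈ P, σ x = τ x) :
    FD p F E R σ v1 w v2 u :=
  ⟨d.cc, d.fnE, hS, h, d.cE, d.ex, d.ab, d.cN, d.NP.trans hR, d.gen, d.uN, d.uE, d.c1, d.c2, d.c3,
    (e _ (d.EP d.m1)).trans d.t1, (e _ (d.EP d.m2)).trans d.t2, (e _ (d.EP d.mw)).trans d.tw,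
    by rw [e _ (d.NP d.uN)]; exact d.tu⟩

end FD

theorem ext_chain [Finite S] [hp : Fact p.Prime] (hF : Sat p F) (hP : F.IsFullyNormalized P)
    (hc : centralizerIn S P ≤ P) (hτ : τ ∈ AutF F P) (c : ℕ → Subgroup Ω) (k : ℕ) (c0 : c 0 = P)
    (ck : c k = ⊥) (h : ∀ i, c (i + 1) ≤ c i ∧ Nat.card (c i) ≤ p * Nat.card (c (i + 1)) ∧
      (∀ x ∈ c i, τ x ∈ c i) ∧ normalizerIn S P ≤ normalizer (c i : Set Ω)) :
    ∃ σ ∈ AutF F (normalizerIn S P), ∀ x ∈ P, σ x = τ x := by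
  haveI := finite_of_le hP.1
  have anti : Antitone c := antitone_nat_of_succ_le fun i => (h i).1
  have cP : ∀ i, c i ≤ P := fun i => c0 ▸ anti (Nat.zero_le i)
  have fin : ∀ i, Finite (c i) := fun i => finite_of_le (cP i)
  have st : ∀ σ ∈ AutF F P, ∀ i, (∀ x ∈ c i, σ x ∈ c i) → σ ∈ Stab (c i) := fun σ hσ i hm =>
    haveI := fin i
    mem_stab_of_mem ((autF_homOn hσ).mono (cP i)) hm
  have mv : ∀ (σ : Perm Ω) i, ∀ x ∈ c i, x⁻¹ * σ x ∈ c (i + 1) → σ x ∈ c i := fun σ i x hx hy => by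
    simpa using mul_mem hx ((h i).1 hy)
  let O : Subgroup (Perm Ω) :=
    { carrier := {σ | σ ∈ AutF F P ∧ ∀ i, ∀ x ∈ c i, x⁻¹ * σ x ∈ c (i + 1)}
      one_mem' := ⟨one_mem _, fun i x _ => by simp⟩
      mul_mem' := fun {a b} ha hb => ⟨mul_mem ha.1 hb.1, fun i x hx => by
        have := mul_mem (hb.2 i x hx) (ha.2 i _ (mv b i x hx (hb.2 i x hx)))
        simpa [mul_assoc] using this⟩
      inv_mem' := fun {a} ha => ⟨inv_mem ha.1, fun i x hx => by
        have h1 := stab_inv_mem (st a ha.1 i fun y hy => mv a i y hy (ha.2 i y hy)) hx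
        have := inv_mem (ha.2 i _ h1)
        simpa using this⟩ }
  obtain ⟨n, hn⟩ := IsPGroup.iff_card.1 hF.pg
  have pw : ∀ x ∈ P, x ^ p ^ n = 1 := fun x hx => by
    have := pow_card_eq_one' (x := (⟨x, hP.1 hx⟩ : S))
    rw [hn] at this
    exact congrArg Subtype.val this
  have pm : PMod p (Fix P) O := by
    intro σ hσ
    have key : ∀ j, ∃ m, ∀ i, ∀ x ∈ c i, x⁻¹ * (σ ^ p ^ m) x ∈ c (i + j + 1) := by
      intro j
      induction j with
      | zero => exact ⟨0, fun i x hx => by simpa using hσ.2 i x hx⟩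
      | succ j ih =>
        obtain ⟨m, hm⟩ := ih
        refine ⟨m + n, fun i x hx => ?_⟩
        rw [pow_add, pow_mul]
        have hρ : σ ^ p ^ m ∈ O := pow_mem hσ _
        set ρ := σ ^ p ^ m
        have ha := hm i x hx
        set a := x⁻¹ * ρ x with ea
        have an : a ∈ normalizer (c (i + j + 1 + 1) : Set Ω) :=
          (h _).2.2.2 (le_nIn hP.1 (cP _ ha))
        have : ∀ t : ℕ, (x * a ^ t)⁻¹ * (ρ ^ t) x ∈ c (i + j + 1 + 1) := by
          intro t
          induction t with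
          | zero => simp
          | succ t iht =>
            have h1 : ρ x = x * a := by rw [ea]; group
            have h2 := (pow_mem hρ t : ρ ^ t ∈ O)
            rw [pow_succ ρ, Perm.mul_apply, h1, (autF_homOn h2.1).map_mul (cP i hx) (cP _ ha)]
            have h3 := mul_mem ((mem_normalizer_iff''.1 an _).1 iht) (h2.2 _ a ha)
            convert h3 using 1
            rw [pow_succ]; group
        have h4 := this (p ^ n)
        rwa [pw a (cP _ ha), mul_one] at h4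
    obtain ⟨m, hm⟩ := key k
    refine ⟨m, mem_fix.2 fun x hx => ?_⟩
    have := anti (show k ≤ 0 + k + 1 by omega) (hm 0 x (c0 ▸ hx))
    rw [ck, mem_bot, inv_mul_eq_one] at this
    exact this.symm
  have le : AutS S P ≤ O := (autS_le_iff (L := O) fun σ hσ => ⟨fix_le_autF F P hσ, fun i x hx => by
      rw [mem_fix.1 hσ x (cP i hx), inv_mul_cancel]; exact one_mem _⟩).2 fun g hg hn =>
    ⟨cj_mem_autF F hP.1 hg hn, fun i x hx => by
      haveI := fin i
      haveI : Finite (normalizerIn S P) := finite_of_le nIn_le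
      have := cm_le_of_card' (hF.pg.to_le ((cP i).trans hP.1)) (hF.pg.to_le nIn_le) (h i).2.2.2
        (h (i + 1)).2.2.2 (h i).1 (h i).2.1 (commutator_mem_commutator (inv_mem hx) (⟨hg, hn⟩ : g ∈ normalizerIn S P))
      simpa [commutatorElement_def, mul_assoc] using this⟩
  have eq : O = AutS S P := (hF.rsyl_of_fn hP).eq_of_le (nfin_autF F P) le (fun _ h => h.1) pm
  have cj1 : ∀ a ∈ AutF F P, (∀ i, a ∈ Stab (c i)) → ∀ σ ∈ O, a * σ * a⁻¹ ∈ O := fun a ha hs σ hσ =>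
    ⟨mul_mem (mul_mem ha hσ.1) (inv_mem ha), fun i x hx => by
      have hy := stab_inv_mem (hs i) hx
      have := stab_mem (hs (i + 1)) (hσ.2 i _ hy)
      rw [(autF_homOn ha).map_mul (inv_mem (cP i hy)) (autF_mem hσ.1 (cP i hy)),
        (autF_homOn ha).map_inv (cP i hy)] at this
      simpa using this⟩
  have hs : ∀ i, τ ∈ Stab (c i) := fun i => st τ hτ i (h i).2.2.1
  refine hF.extend_to sc_top (hF.fc_of_fn hP) (le_nIn hP.1) cIn_le_nIn le_rfl hτ ?_
  rw [show AutS (normalizerIn S P) P = O from (autS_inf_normalizer S P).trans eq.symm]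
  refine mem_normalizer_iff.2 fun σ => ⟨cj1 τ hτ hs σ, fun h' => ?_⟩
  have := cj1 τ⁻¹ (inv_mem hτ) (fun i => inv_mem (hs i)) _ h'
  simpa [mul_assoc] using this

end Cfsg.Agent.MQ
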