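import Cfsg.Agent.MQ.FX1

/-! From fusion data to group data; the main induction. -/

set_option autoImplicit false

namespace Cfsg.Agent.MQ

open Subgroup Equiv Cfsg.FusionSystem Cfsg.Agent.H23 Cfsg.Agent.H23.LF
open scoped commutatorElement

universe u

variable {Ω : Type u} [Group Ω] {S : Subgroup Ω} {p : ℕ} {F : FusionSystem S} {E P R : Subgroup Ω}
  {τ θ : Perm Ω} {v1 w v2 u : Ω}

open Classical in
/-- the map induced on `S` -/
noncomputable def rs (S : Subgroup Ω) (τ : Perm Ω) (x : S) : S :=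
  if h : τ x ∈ S then ⟨τ x, h⟩ else x

theorem rs_val {x : S} (h : τ x ∈ S) : (rs S τ x : Ω) = τ x := by rw [rs, dif_pos h]

theorem card_sub (h : P ≤ S) : Nat.card (P.subgroupOf S) = Nat.card P :=
  Nat.card_congr (subgroupOfEquivOfLe h).toEquiv

theorem norm_sub (h : P ≤ S) :
    normalizer (P.subgroupOf S : Set S) = (normalizerIn S P).subgroupOf S := by
  rw [← subgroupOf_normalizer_eq h]
  ext x
  exact ⟨fun hx => ⟨x.2, hx⟩, fun hx => hx.2⟩

theorem FD.dt [Finite S] (d : FD p F E P τ v1 w v2 u) :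
    Dt p (E.subgroupOf S) (P.subgroupOf S) (rs S τ) ⟨v1, d.cc.1 d.m1⟩ ⟨w, d.cc.1 d.mw⟩
      ⟨v2, d.cc.1 d.m2⟩ ⟨u, d.uN.1⟩ := by
  have H := autF_homOn d.aut
  have val : ∀ x : S, (x : Ω) ∈ P → (rs S τ x : Ω) = τ x := fun x hx =>
    rs_val (d.PS (autF_mem d.aut hx))
  have ES := d.cc.1
  refine ⟨fun x hx y hy => Subtype.ext ?_, fun x hx y hy e => Subtype.ext (τ.injective ?_),
    fun x hx => ?_, (card_sub ES).trans d.cE, fun x hx => Subtype.ext (d.ex x hx),
    fun g => ⟨fun hg x hx => Subtype.ext (d.ab x hx g hg), fun h => ?_⟩, ?_, ?_, ?_, ?_, d.uE,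
    Subtype.ext d.c1, Subtype.ext d.c2, Subtype.ext d.c3,
    Subtype.ext ((val _ (d.EP d.m1)).trans d.t1), Subtype.ext ((val _ (d.EP d.m2)).trans d.t2),
    Subtype.ext ((val _ (d.EP d.mw)).trans d.tw), ?_, ?_⟩
  · rw [val (x * y) (mul_mem hx hy : x * y ∈ P.subgroupOf S), Subgroup.coe_mul S (rs S τ x), val x hx, val y hy]
    exact H.map_mul hx hy
  · rw [← val x hx, ← val y hy, e]
  · show (rs S τ x : Ω) ∈ P
    rw [val x hx]; exact autF_mem d.aut hx
  · have := (centric_iff.1 d.cc).2 1 (mor_one F ES)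
    rw [im_one] at this
    exact this ⟨g.2, fun x hx => congrArg Subtype.val (h ⟨x, ES hx⟩ hx)⟩
  · rw [norm_sub ES, card_sub nIn_le, d.cN]
  · rw [norm_sub ES]; exact fun x hx => d.NP hx
  · apply map_injective S.subtype_injective
    rw [subgroupOf_map_subtype, inf_eq_left.2 ES, MonoidHom.map_closure]
    simp only [Set.image_insert_eq, Set.image_singleton]
    exact d.gen
  · rw [norm_sub ES]; exact d.uN
  · show u⁻¹ * (rs S τ ⟨u, d.uN.1⟩ : Ω) ∈ E
    rw [val _ (d.NP d.uN)]; exact d.tu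
  · intro X g hX hg
    have m1 : Mor F E ⇑(τ⁻¹ * cj (g : Ω)) :=
      (mor_cj F ES g.2).mul (autF_mor d.PS (inv_mem d.aut)) fun y hy => hg ⟨y, ES hy⟩ hy
    have e : X = (im ⇑(τ⁻¹ * cj (g : Ω)) E).subgroupOf S := by
      ext x
      rw [hX, mem_subgroupOf, mem_subgroupOf, mem_subgroupOf, m1.homOn.mem_im]
      constructor
      · rintro ⟨h1, h2⟩
        refine ⟨_, h2, ?_⟩
        rw [Perm.mul_apply, cj_apply, coe_mul, coe_mul, val x h1, coe_inv]
        simp [mul_assoc]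
      · rintro ⟨y, hy, e⟩
        have h0 : (g : Ω) * y * (g : Ω)⁻¹ ∈ P := hg ⟨y, ES hy⟩ hy
        rw [Perm.mul_apply, cj_apply] at e
        have h1 : (x : Ω) ∈ P := e ▸ autF_mem (inv_mem d.aut) h0
        refine ⟨h1, ?_⟩
        rw [coe_mul, coe_mul, val x h1, coe_inv, ← e]
        simpa [mul_assoc] using hy
    rw [e, norm_sub m1.im_le, card_sub nIn_le, ← d.cN]
    exact (fn_iff.1 d.fnE).2 _ m1

theorem FD.false [Finite S] [hp : Fact p.Prime] (hF : Sat p F)
    (pg : ∀ (E P : Subgroup S) (τ : S → S) (v1 w v2 u : S), Dt p E P τ v1 w v2 u →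
      P ≠ ⊤ ∧ Chn p P τ) :
    ∀ (k : ℕ) {E P : Subgroup Ω} {τ : Perm Ω} {v1 w v2 u : Ω}, FD p F E P τ v1 w v2 u →
      Nat.card S ≤ Nat.card P + k → False := by
  have lt : ∀ {E P : Subgroup Ω} {τ : Perm Ω} {v1 w v2 u : Ω}, FD p F E P τ v1 w v2 u → P < S :=
    fun d => lt_of_le_of_ne d.PS fun e => (pg _ _ _ _ _ _ _ d.dt).1 (by rw [e, subgroupOf_self])
  intro k
  induction k with
  | zero => exact fun d h => (lt d).ne (eq_of_le_of_card_ge d.PS h)
  | succ k ih =>
    intro E P τ v1 w v2 u d0 h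
    obtain ⟨θ, h1, h2⟩ := hF.exists_nIn_fn d0.PS
    have h3 := h1.mono (le_nIn d0.PS)
    have d := d0.conj h3
    rw [← h3.card_im] at h
    generalize im θ P = Q at d h h2
    obtain ⟨-, c, m, c0, ck, hc⟩ := pg _ _ _ _ _ _ _ d.dt
    have anti : Antitone c := antitone_nat_of_succ_le fun i => (hc i).1
    have cQ : ∀ i, ∀ x ∈ c i, (x : Ω) ∈ Q := fun i x hx => by
      have := anti (Nat.zero_le i) hx
      rwa [c0] at this
    have cc : centralizerIn S Q ≤ Q := by
      have := (centric_iff.1 d.cc).2 1 (mor_one F d.cc.1)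
      rw [im_one] at this
      exact fun g hg => d.EP (this ⟨hg.1, fun x hx => hg.2 x (d.EP hx)⟩)
    obtain ⟨σ, s1, s2⟩ := ext_chain hF h2 cc d.aut (fun i => (c i).map S.subtype) m
      (by rw [c0, subgroupOf_map_subtype, inf_eq_left.2 d.PS]) (by rw [ck, Subgroup.map_bot])
      fun i => ⟨map_mono (hc i).1, by
        rw [card_map_of_injective S.subtype_injective, card_map_of_injective S.subtype_injective]
        exact (hc i).2.1, by
        rintro _ ⟨x, hx, rfl⟩
        exact ⟨_, (hc i).2.2.1 x hx, rs_val (d.PS (autF_mem d.aut (cQ i x hx)))⟩, fun g hg => by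
        have := (hc i).2.2.2 (show (⟨g, hg.1⟩ : S) ∈ _ by rw [norm_sub d.PS]; exact hg)
        exact le_normalizer_map S.subtype ⟨_, this, rfl⟩⟩
    have hl := lt_nIn hF.pg (lt d)
    refine ih (d.up hl.le nIn_le s1 s2) ?_
    haveI : Finite (normalizerIn S Q) := finite_of_le nIn_le
    have := card_lt_of_lt hl
    omega

end Cfsg.Agent.MQ
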