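import Cfsg.Agent.MQ.D

/-! The element inverting the natural module in an elementary abelian essential subgroup. -/

set_option autoImplicit false

namespace Cfsg.Agent.MQ

open Subgroup Cfsg.Agent.H9 Cfsg.Agent.L0
open scoped commutatorElement

theorem g3b {G : Type*} [Group G] [Finite G] {p : ℕ} [Fact p.Prime] (_hp : 5 ≤ p)
    {E N H : Subgroup G} (h : L0.EssG p E N H) (cE : Nat.card E = p ^ 3)
    (_ex : ∀ x ∈ E, x ^ p = 1) (ab : ∀ x ∈ E, ∀ y ∈ E, x * y = y * x) (cN : Nat.card N = p ^ 4)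
    (E' : Subgroup G) (h1 : E' ≤ N) (h2 : E' ≠ E) (h3 : Nat.card E' = p ^ 3)
    (ab' : ∀ x ∈ E', ∀ y ∈ E', x * y = y * x) :
    ∃ g v1 w v2 u : G, E = closure ({v1, w, v2} : Set G) ∧ u ∈ N ∧ u ∉ E ∧ ⁅v2, u⁆ = v1 ∧ v1 * u = u * v1 ∧
      w * u = u * w ∧ g * v1 * g⁻¹ = v1⁻¹ ∧ g * v2 * g⁻¹ = v2⁻¹ ∧ g * w * g⁻¹ = w ∧
      u⁻¹ * (g * u * g⁻¹) ∈ E := by
  have hp := (Fact.out : p.Prime)
  obtain ⟨u, uE', uE⟩ : ∃ u ∈ E', u ∉ E := by
    by_contra hc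
    push Not at hc
    exact h2 (eq_of_le_of_card_ge hc (by rw [cE, h3]))
  obtain ⟨x, xE, xE'⟩ : ∃ x ∈ E, x ∉ E' := by
    by_contra hc
    push Not at hc
    exact h2 (eq_of_le_of_card_ge hc (by rw [cE, h3])).symm
  have hW := card_inf_le h.syl.pgrp h.lt.le h1 (by rw [cN, h3, ← pow_succ'])
  have hN := eq_sup_zpowers_of_card h.syl.pgrp h.lt.le (by rw [cN, cE, ← pow_succ']) (h1 uE') uE
  have hE : E ≤ centralizer (E : Set G) := fun a ha => mem_centralizer_iff.2 fun b hb => ab b hb a ha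
  have hNW : N ≤ centralizer ((E ⊓ E' : Subgroup G) : Set G) := by
    rw [hN]
    exact sup_le (fun a ha => mem_centralizer_iff.2 fun b hb => ab b hb.1 a ha)
      (zpowers_le.2 (mem_centralizer_iff.2 fun b hb => ab' b hb.2 u uE'))
  have ht := h.tv_of_axis inf_le_left hW hNW xE (fun e => xE' e.2) (h1 uE')
  generalize ⁅x, u⁆ = v at ht
  obtain ⟨D, v2, t, -, DE, DC, m2, -, nc, vD, -, -, dec, tN, -, t1, t2⟩ := h.sl2 hE hN.le (h1 uE') ht
  have m1 := ht.y v2 m2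
  have n1 : ⁅v2, u⁆ ≠ 1 := fun e => nc (cm_eq_one.1 e)
  obtain ⟨w', w1, w2⟩ : ∃ w' ∈ E ⊓ E', w' ∉ zpowers v := by
    by_contra hc
    push Not at hc
    have h4 := card_le_of_le (hc : E ⊓ E' ≤ zpowers v)
    have h5 := Nat.le_of_dvd hp.pos (orderOf_dvd_of_pow_eq_one ht.pow)
    rw [Nat.card_zpowers] at h4
    have h6 : p ^ 3 ≤ p ^ 2 := by rw [← cE]; nlinarith
    have := (Nat.pow_le_pow_iff_right hp.one_lt).1 h6
    omega
  obtain ⟨w, wD, i, e⟩ := dec w' w1.1 (ab' u uE' w' w1.2)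
  have w0 : w ≠ 1 := fun e1 => w2 (by rw [e, e1, one_mul]; exact zpow_mem_zpowers v i)
  have cD : ∀ a ∈ H24.ncl N ⊤, w * a = a * w := fun a ha => mem_centralizer_iff.1 (DC ha) w wD
  have cw := cD u (H24.le_ncl N ⊤ (h1 uE'))
  have c1 : ⁅v2, u⁆ * u = u * ⁅v2, u⁆ := (ht.comm' m1).symm.eq
  have t3 : t * ⁅v2, u⁆ * t⁻¹ = ⁅v2, u⁆⁻¹ := by
    obtain ⟨k, hk⟩ := m1
    rw [← hk, ← conj_zpow, t1, inv_zpow]
  have t4 : t * w * t⁻¹ = w := by rw [← cD t tN, mul_inv_cancel_right]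
  have mE := ht.le m1
  have gen : E = closure {⁅v2, u⁆, w, v2} := by
    have l3 : closure {⁅v2, u⁆, w, v2} ≤ E := by
      simp [closure_le, Set.insert_subset_iff, mE, DE wD, m2]
    have l2 : zpowers w ⊔ zpowers ⁅v2, u⁆ < closure {⁅v2, u⁆, w, v2} := by
      refine lt_of_le_of_ne (sup_le (zpowers_le.2 (subset_closure (by simp)))
        (zpowers_le.2 (subset_closure (by simp)))) fun e1 => nc ?_
      have : zpowers w ⊔ zpowers ⁅v2, u⁆ ≤ centralizer {u} := sup_le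
        (zpowers_le.2 (mem_centralizer_singleton_iff.2 cw))
        (zpowers_le.2 (mem_centralizer_singleton_iff.2 c1))
      exact (mem_centralizer_singleton_iff.1 (this (e1 ▸ subset_closure (by simp)))).symm
    have l1 : zpowers w < zpowers w ⊔ zpowers ⁅v2, u⁆ := left_lt_sup.2 fun e1 => vD (by
      obtain ⟨k, hk⟩ := exists_zpow_of_prime ht.pow m1 n1 (mem_zpowers v)
      exact hk ▸ zpow_mem (zpowers_le.2 wD (e1 (mem_zpowers _))) k)
    have l0 : ⊥ < zpowers w := bot_lt_iff_ne_bot.2 (zpowers_ne_bot.2 w0)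
    have p3 := h.pE.to_le l3
    have k2 := H9.mul_card_le_of_lt_of_isPGroup p3 l2
    have k1 := H9.mul_card_le_of_lt_of_isPGroup (p3.to_le l2.le) l1
    have k0 := H9.mul_card_le_of_lt_of_isPGroup (p3.to_le (l1.trans l2).le) l0
    rw [card_bot, mul_one] at k0
    refine (eq_of_le_of_card_ge l3 ?_).symm
    rw [cE]
    calc p ^ 3 = p * (p * p) := by ring
      _ ≤ _ := (Nat.mul_le_mul_left _ ((Nat.mul_le_mul_left _ k0).trans k1)).trans k2
  refine ⟨t, _, w, v2, u, gen, h1 uE', uE, rfl, c1, cw, t3, t2, t4, h.cent ?_⟩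
  have key : ∀ a : G, u * (t⁻¹ * a * t) * u⁻¹ = t⁻¹ * (u * a * u⁻¹) * t →
      a * (u⁻¹ * (t * u * t⁻¹)) = u⁻¹ * (t * u * t⁻¹) * a := fun a e => by
    calc _ = u⁻¹ * t * (t⁻¹ * (u * a * u⁻¹) * t) * u * t⁻¹ := by group
      _ = _ := by rw [← e]; group
  have iv : ∀ {a : G}, t * a * t⁻¹ = a⁻¹ → t⁻¹ * a * t = a⁻¹ := fun {a} e => by
    calc _ = t⁻¹ * (a⁻¹)⁻¹ * t := by rw [inv_inv]
      _ = _ := by conv_lhs => rw [← e]
                  group
  have c12 := ab _ mE _ m2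
  rw [gen, centralizer_closure, mem_centralizer_iff]
  rintro a (rfl | rfl | rfl)
  · refine key _ ?_
    rw [← c1, mul_inv_cancel_right, iv t3, ← inv_inj, mul_inv_rev, mul_inv_rev, inv_inv, inv_inv,
      ← mul_assoc, ← c1, mul_inv_cancel_right]
  · refine key _ ?_
    rw [← cw, mul_inv_cancel_right, mul_assoc t⁻¹, cD t tN, inv_mul_cancel_left, ← cw,
      mul_inv_cancel_right]
  · refine key _ ?_
    have e1 : u * a * u⁻¹ = ⁅a, u⁆⁻¹ * a := by simp only [commutatorElement_def]; group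
    have e2 : u * a⁻¹ * u⁻¹ = a⁻¹ * ⁅a, u⁆ := by simp only [commutatorElement_def]; group
    calc _ = a⁻¹ * ⁅a, u⁆ := by rw [iv t2, e2]
      _ = (t⁻¹ * ⁅a, u⁆ * t)⁻¹ * (t⁻¹ * a * t) := by
        rw [iv t3, iv t2, inv_inv, eq_mul_inv_iff_mul_eq, mul_assoc, c12, inv_mul_cancel_left]
      _ = _ := by rw [e1]; group

end Cfsg.Agent.MQ
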