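import Cfsg.Agent.MQ.FX2
import Cfsg.Agent.MQ.G3b
import Cfsg.Agent.S5185
import Cfsg.Agent.S5186

/-! The initial data and the final reduction. -/

set_option autoImplicit false

namespace Cfsg.Agent.MQ

open Subgroup Equiv Cfsg.FusionSystem Cfsg.Agent.H23 Cfsg.Agent.H23.LF
open scoped commutatorElement

universe u

variable {Ω : Type u} [Group Ω] {S : Subgroup Ω} {p n : ℕ} {F : FusionSystem S} {E : Subgroup Ω}

theorem exists_fd [Finite S] [hpp : Fact p.Prime] (hp : 5 ≤ p) (hF : Sat p F)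
    (g3a : ∀ {G : Type u} [Group G] [Finite G] {E N H : Subgroup G}, L0.EssG p E N H →
      Nat.card E = p ^ 3 → (∀ x ∈ E, x ^ p = 1) → (∀ x ∈ E, ∀ y ∈ E, x * y = y * x) →
      Nat.card N = p ^ 4)
    (hn : Nat.card S = p ^ n) (h5 : 5 ≤ n) (hE : F.IsEssential p E) (cE : Nat.card E = p ^ 3)
    (ex : ∀ x ∈ E, x ^ p = 1) (ab : ∀ x ∈ E, ∀ y ∈ E, x * y = y * x) :
    ∃ τ v1 w v2 u, FD p F E (normalizerIn S E) τ v1 w v2 u := by
  obtain ⟨G, _, θ, H, h⟩ := Sat.exists_em hF hE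
  haveI := h.fin
  have hh := h.hom
  have abim : ∀ X ≤ normalizerIn S E, (∀ x ∈ X, ∀ y ∈ X, x * y = y * x) →
      ∀ x ∈ im θ X, ∀ y ∈ im θ X, x * y = y * x := fun X hX a x hx y hy => by
    obtain ⟨x', hx', rfl⟩ := (h.mem_im hX).1 hx
    obtain ⟨y', hy', rfl⟩ := (h.mem_im hX).1 hy
    rw [← hh.map_mul (hX hx') (hX hy'), ← hh.map_mul (hX hy') (hX hx'), a x' hx' y' hy']
  have cE' := (h.card_im h.leN).trans cE
  have ex' : ∀ x ∈ im θ E, x ^ p = 1 := fun x hx => by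
    obtain ⟨x', hx', rfl⟩ := (h.mem_im h.leN).1 hx
    rw [← hh.map_pow (h.leN hx'), ex x' hx', hh.map_one]
  have cN' := g3a h.ess cE' ex' (abim E h.leN ab)
  have cN := (h.card_im le_rfl).symm.trans cN'
  have lt : normalizerIn S E < S := lt_of_le_of_ne nIn_le fun e => by
    rw [e, hn] at cN
    have := Nat.pow_right_injective hpp.out.two_le cN
    omega
  obtain ⟨m, hm, hm'⟩ := SetLike.exists_of_lt (lt_nIn hF.pg lt)
  have m1 := mor_cj F h.le hm.1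
  have e1 : im (cj m) E ≤ normalizerIn S E := im_le_iff.2 fun x hx =>
    (mem_normalizer_iff.1 hm.2 x).1 (h.leN hx)
  obtain ⟨g, a1, b, a2, c, k1, k2, k3, k4, k5, k6, k7, k8, k9, k10⟩ :=
    g3b hp h.ess cE' ex' (abim E h.leN ab) cN' (im θ (im (cj m) E)) (im_mono θ e1)
      (fun e => hm' ⟨hm.1, im_cj_eq_iff.1 ((h.im_inj e1 h.leN).1 e)⟩)
      (by rw [h.card_im e1, m1.card_im, cE])
      (abim _ e1 fun x hx y hy => by
        have := ab _ (mem_im_cj.1 hx) _ (mem_im_cj.1 hy)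
        calc x * y = m * (m⁻¹ * x * m * (m⁻¹ * y * m)) * m⁻¹ := by group
          _ = y * x := by rw [this]; group)
  obtain ⟨v1, m1, rfl⟩ := (h.mem_im h.leN).1 (k1 ▸ subset_closure (by simp) : a1 ∈ im θ E)
  obtain ⟨w, mw, rfl⟩ := (h.mem_im h.leN).1 (k1 ▸ subset_closure (by simp) : b ∈ im θ E)
  obtain ⟨v2, m2, rfl⟩ := (h.mem_im h.leN).1 (k1 ▸ subset_closure (by simp) : a2 ∈ im θ E)
  obtain ⟨u, mu, rfl⟩ := (h.mem_im le_rfl).1 k2
  have n1 := h.leN m1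
  have nw := h.leN mw
  have n2 := h.leN m2
  have hg : g ∈ normalizer (im θ (normalizerIn S E) : Set G) := by
    have nE := h.ess.nrm
    have e := L0.eq_sup_zpowers_of_card h.ess.syl.pgrp h.ess.lt.le
      (by rw [cN', cE', ← pow_succ']) k2 k3
    refine mem_normalizer_fintype fun x hx => ?_
    have hu : g * θ u * g⁻¹ ∈ im θ (normalizerIn S E) := by
      simpa using mul_mem k2 (h.ess.lt.le k10)
    have hx' : x ∈ im θ E ⊔ zpowers (θ u) := e ▸ hx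
    obtain ⟨y, hy, k, rfl⟩ := (L0.mem_sup_zpowers' (h.ess.nE ⊤ (mem_top _))).1 hx'
    have := mul_mem (h.ess.lt.le (nE.conj_mem y hy g)) (zpow_mem hu k)
    rw [conj_zpow] at this
    simpa [mul_assoc] using this
  obtain ⟨σ, s1, -, s3⟩ := h.exists_aut' h.leN le_rfl hg
  have sm : ∀ x ∈ normalizerIn S E, σ x ∈ normalizerIn S E := fun x hx => autF_mem s1 hx
  have cl : closure {v1, w, v2} ≤ E := (closure_le _).2 (by rintro x (rfl | rfl | rfl) <;> assumption)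
  refine ⟨σ, v1, w, v2, u, hE.1, hE.2.1, nIn_le, s1, cE, ex, ab, cN, le_rfl, ?_, mu,
    fun c => k3 (mem_im_of_mem θ c), ?_, ?_, ?_, ?_, ?_, ?_, ?_⟩
  · rw [← h.im_inj h.leN (cl.trans h.leN), im_cl3 (hh.mono (cl.trans h.leN))]; exact k1
  · rw [← h.inj (by
      rw [commutatorElement_def]; exact mul_mem (mul_mem (mul_mem n2 mu) (inv_mem n2)) (inv_mem mu)) n1,
      h.map_cm n2 mu, k4]
  · rw [← h.inj (mul_mem n1 mu) (mul_mem mu n1), hh.map_mul n1 mu, hh.map_mul mu n1, k5]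
  · rw [← h.inj (mul_mem nw mu) (mul_mem mu nw), hh.map_mul nw mu, hh.map_mul mu nw, k6]
  · rw [← h.inj (sm _ n1) (inv_mem n1), s3 _ n1, hh.map_inv n1, k7]
  · rw [← h.inj (sm _ n2) (inv_mem n2), s3 _ n2, hh.map_inv n2, k8]
  · rw [← h.inj (sm _ nw) nw, s3 _ nw, k9]
  · rw [← h.apply_mem h.leN (mul_mem (inv_mem mu) (sm _ mu)), hh.map_mul (inv_mem mu) (sm _ mu),
      hh.map_inv mu, s3 _ mu]
    exact k10

theorem fin0 [Finite S] [hpp : Fact p.Prime] (hp : 5 ≤ p) (hF : Sat p F)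
    (g3a : ∀ {G : Type u} [Group G] [Finite G] {E N H : Subgroup G}, L0.EssG p E N H →
      Nat.card E = p ^ 3 → (∀ x ∈ E, x ^ p = 1) → (∀ x ∈ E, ∀ y ∈ E, x * y = y * x) →
      Nat.card N = p ^ 4)
    (pg : ∀ (E P : Subgroup S) (τ : S → S) (v1 w v2 u : S), Dt p E P τ v1 w v2 u →
      P ≠ ⊤ ∧ Chn p P τ)
    (hn : Nat.card S = p ^ n) (h5 : 5 ≤ n) (hE : F.IsEssential p E)
    (hnp : ¬ ((Nat.card ↥E = p ^ 2 ∧ Cfsg.IsElementaryAbelian p E) ∨
      (Nat.card ↥E = p ^ 3 ∧ Cfsg.IsExtraspecial p ↥E ∧ Monoid.exponent ↥E = p))) :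
    p ^ 4 ≤ Nat.card E := by
  haveI := finite_of_le hE.1.1
  have pE := hF.pg.to_le hE.1.1
  obtain ⟨k, hk⟩ := IsPGroup.iff_card.1 pE
  rw [hk]
  refine Nat.pow_le_pow_right hpp.out.pos (not_lt.1 fun h4 => ?_)
  rcases (by omega : k ≤ 1 ∨ k = 2 ∨ k = 3) with h | rfl | rfl
  · haveI : Finite (normalizerIn S E) := finite_of_le nIn_le
    refine (Sat.ess_lt hF hE).not_ge (Sat.ess_chain1 hF hE le_rfl (le_trans ?_ bot_le))
    refine cm_le_of_card' pE (hF.pg.to_le nIn_le) nIn_le_norm (fun x _ => ?_) bot_le ?_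
    · rw [normalizer_eq_top]; trivial
    · rw [hk, card_bot, mul_one]
      simpa using Nat.pow_le_pow_right hpp.out.pos h
  · exact hnp (.inl ⟨hk, (S5185.result p hF.pg F hF.sat E hE hk).1⟩)
  · rcases S5186.result p hF.pg F hF.sat E hE hk with ⟨a, b⟩ | ⟨-, a, b⟩ | ⟨a, -⟩
    · obtain ⟨τ, v1, w, v2, u, d⟩ := exists_fd hp hF g3a hn h5 hE hk b fun x hx y hy =>
        congrArg Subtype.val (a.is_comm.comm (⟨x, hx⟩ : E) ⟨y, hy⟩)
      exact FD.false hF pg _ d (Nat.le_add_left _ _)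
    · refine hnp (.inr ⟨hk, a, ?_⟩)
      have h1 : Monoid.exponent E ∣ p :=
        Monoid.exponent_dvd_of_forall_pow_eq_one fun x => Subtype.ext (b x x.2)
      refine ((Nat.dvd_prime hpp.out).1 h1).resolve_left fun e => ?_
      haveI := Monoid.exp_eq_one_iff.1 e
      rw [Nat.card_of_subsingleton (1 : E)] at hk
      exact (Nat.one_lt_pow (by omega) hpp.out.one_lt).ne hk
    · omega

end Cfsg.Agent.MQ
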