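import Cfsg.Agent.MQ.D

/-! An elementary abelian essential subgroup of order `p ^ 3` has index `p` in a Sylow subgroup. -/

set_option autoImplicit false

namespace Cfsg.Agent.MQ

open Subgroup Cfsg.Agent.H24 Cfsg.Agent.L0
open scoped commutatorElement

variable {G : Type*} [Group G] {p : ℕ} {E N H A Q : Subgroup G} {a c s t v x y q : G}

/-- the flag `E > A > ⟨c⟩` and the group `Q` of transvections with centre `c` -/
structure G3F (p : ℕ) (E N H A Q : Subgroup G) (c : G) : Prop where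
  h : EssG p E N H
  ex : ∀ x ∈ E, x ^ p = 1
  ab : ∀ x ∈ E, ∀ y ∈ E, x * y = y * x
  AE : A ≤ E
  cE : Nat.card E ≤ p * Nat.card A
  cA : Nat.card A ≤ p * Nat.card (zpowers c)
  cm : c ∈ A
  e : ∀ x ∈ E, ∀ a ∈ N, ⁅x, a⁆ ∈ A
  a : ∀ x ∈ A, ∀ a ∈ N, ⁅x, a⁆ ∈ zpowers c
  z : ∀ a ∈ N, Commute a c
  ne : ¬ N ≤ 𝐂[A]
  q : ∀ a, a ∈ Q ↔ a ∈ N ∧ ∀ x ∈ E, ⁅x, a⁆ ∈ zpowers c

theorem g3_cz (h : Commute a c) (hx : x ∈ zpowers c) : a * x * a⁻¹ = x := by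
  obtain ⟨k, rfl⟩ := hx; exact mul_inv_eq_iff_eq_mul.2 (h.zpow_right k).eq

theorem g3_exQ (E : Subgroup G) (z : ∀ a ∈ N, Commute a c) :
    ∃ Q : Subgroup G, ∀ a, a ∈ Q ↔ a ∈ N ∧ ∀ x ∈ E, ⁅x, a⁆ ∈ zpowers c := by
  refine ⟨⟨⟨⟨{a | a ∈ N ∧ ∀ x ∈ E, ⁅x, a⁆ ∈ zpowers c}, fun {a b} ha hb => ⟨mul_mem ha.1 hb.1, fun x hx => ?_⟩⟩,
    ⟨one_mem _, fun x _ => by simp⟩⟩, fun {a} ha => ⟨inv_mem ha.1, fun x hx => ?_⟩⟩, fun _ => Iff.rfl⟩
  · rw [cm_mul_right, g3_cz (z a ha.1) (hb.2 x hx)]; exact mul_mem (ha.2 x hx) (hb.2 x hx)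
  · have e : ⁅x, a⁻¹⁆ = a⁻¹ * ⁅x, a⁆⁻¹ * a⁻¹⁻¹ := by simp only [commutatorElement_def]; group
    rw [e, g3_cz (z a ha.1).inv_left (inv_mem (ha.2 x hx))]; exact inv_mem (ha.2 x hx)

namespace G3F
variable [hp : Fact p.Prime] [Finite G] (f : G3F p E N H A Q c)
include f

omit hp [Finite G] in
theorem cE' : E ≤ 𝐂[E] := fun x hx => mem_centralizer_iff'.2 fun y hy => f.ab y hy x hx

omit hp [Finite G] in
theorem zE (hx : x ∈ zpowers c) : x ∈ E := f.AE (zpowers_le.2 f.cm hx)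

omit hp [Finite G] in
theorem tv (ht : t ∈ Q) : Tv p E E t c :=
  ⟨fun x hx => f.zE (((f.q t).1 ht).2 x hx), ((f.q t).1 ht).2, f.AE f.cm, f.ex _ (f.AE f.cm), f.z t ((f.q t).1 ht).1⟩

theorem decE (hv : v ∈ E) (hv' : v ∉ A) (hx : x ∈ E) : ∃ u ∈ A, ∃ j : ℤ, x = u * v ^ j :=
  (mem_sup_zpowers' (le_normalizer_of_card f.h.pE f.AE f.cE hv)).1 (eq_sup_zpowers_of_card f.h.pE f.AE f.cE hv hv' ▸ hx)

theorem decA (hv : v ∈ A) (hv' : v ∉ zpowers c) (hx : x ∈ A) : ∃ u ∈ zpowers c, ∃ j : ℤ, x = u * v ^ j :=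
  (mem_sup_zpowers' (le_normalizer_of_card (f.h.pE.to_le f.AE) (zpowers_le.2 f.cm) f.cA hv)).1
    (eq_sup_zpowers_of_card (f.h.pE.to_le f.AE) (zpowers_le.2 f.cm) f.cA hv hv' ▸ hx)

theorem mQ (hs : s ∈ N) (hv : v ∈ E) (hv' : v ∉ A) (h : ⁅v, s⁆ ∈ zpowers c) : s ∈ Q := (f.q s).2 ⟨hs, fun x hx => by
  obtain ⟨u, hu, j, rfl⟩ := f.decE hv hv' hx
  rw [cm_mul_left, cm_zpow_left (f.ab _ hv _ (f.zE h)), g3_cz (f.z u (f.h.lt.le (f.AE hu))) (zpow_mem h j)]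
  exact mul_mem (zpow_mem h j) (f.a u hu s hs)⟩

theorem cA' (hs : s ∈ N) (hv : v ∈ A) (hv' : v ∉ zpowers c) (h : Commute s v) : s ∈ 𝐂[A] :=
  mem_centralizer_iff'.2 fun x hx => by
    obtain ⟨u, ⟨k, rfl⟩, j, rfl⟩ := f.decA hv hv' hx
    exact (((f.z s hs).zpow_right k).mul_right (h.zpow_right j)).symm.eq

omit hp [Finite G] in
theorem pw (hs : s ∈ N) (hx : x ∈ E) (k : ℕ) : ∃ u ∈ zpowers c, ⁅x, s ^ k⁆ = u * ⁅x, s⁆ ^ k := by
  induction k with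
  | zero => exact ⟨1, one_mem _, by simp⟩
  | succ k ih =>
    obtain ⟨u, hu, e⟩ := ih
    have m := f.e x hx s hs
    have m2 := f.a _ (pow_mem m k) s hs
    have e2 : s * (u * ⁅x, s⁆ ^ k) * s⁻¹ = s * u * s⁻¹ * (⁅⁅x, s⁆ ^ k, s⁆⁻¹ * ⁅x, s⁆ ^ k) := by
      generalize ⁅x, s⁆ ^ k = y
      simp only [commutatorElement_def]; group
    refine ⟨u * ⁅⁅x, s⁆ ^ k, s⁆⁻¹, mul_mem hu (inv_mem m2), ?_⟩
    rw [pow_succ', cm_mul_right, e, e2, g3_cz (f.z s hs) hu, ← mul_assoc u, ← mul_assoc,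
      f.ab _ (f.AE m) _ (f.zE (mul_mem hu (inv_mem m2))), pow_succ', mul_assoc _ _ (_ ^ k)]

theorem step (hs : s ∈ N) (hs' : s ∉ Q) (hq : q ∈ N) : ∃ k : ℕ, q * s ^ k ∈ Q := by
  obtain ⟨x, hx, hx'⟩ : ∃ x ∈ E, ⁅x, s⁆ ∉ zpowers c := by
    by_contra! n; exact hs' ((f.q s).2 ⟨hs, n⟩)
  have m := f.e x hx s hs
  obtain ⟨u, hu, j, e⟩ := f.decA m hx' (inv_mem (f.e x hx q hq))
  obtain ⟨k, hk⟩ : ⁅x, s⁆ ^ j ∈ Submonoid.powers ⁅x, s⁆ := mem_powers_iff_mem_zpowers.2 (zpow_mem_zpowers _ j)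
  obtain ⟨u', hu', e'⟩ := f.pw hs hx k
  refine ⟨k, f.mQ (mul_mem hq (pow_mem hs k)) hx (fun n => hx' (f.a x n s hs)) ?_⟩
  have m2 := f.a _ (pow_mem m k) q hq
  have e2 : q * (u' * ⁅x, s⁆ ^ k) * q⁻¹ = q * u' * q⁻¹ * (⁅⁅x, s⁆ ^ k, q⁆⁻¹ * ⁅x, s⁆ ^ k) := by
    generalize ⁅x, s⁆ ^ k = y
    simp only [commutatorElement_def]; group
  have hk' : ⁅x, s⁆ ^ k = ⁅x, s⁆ ^ j := hk
  rw [cm_mul_right, e', e2, g3_cz (f.z q hq) hu', ← mul_assoc u', ← mul_assoc,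
    f.ab _ (f.AE (f.e x hx q hq)) _ (f.zE (mul_mem hu' (inv_mem m2))), mul_assoc, ← inv_inv ⁅x, q⁆, e, ← hk',
    ← f.ab _ (f.AE (pow_mem m k)) _ (f.zE hu), mul_inv_rev, inv_mul_cancel_right]
  exact mul_mem (mul_mem hu' (inv_mem m2)) (inv_mem hu)

theorem exT (ht : t ∈ Q) (ht' : t ∉ E) (hs : s ∈ N) (hs' : s ∉ Q) : ∃ r ∈ Q, r ∉ E ∧ r ∈ 𝐂[A] := by
  haveI := f.h.nrm
  obtain ⟨tN, tq⟩ := (f.q t).1 ht
  by_cases n : s * t * s⁻¹ * t⁻¹ ∈ E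
  · obtain ⟨x, hx, hx'⟩ : ∃ x ∈ E, ⁅x, s⁆ ∉ zpowers c := by
      by_contra! n; exact hs' ((f.q s).2 ⟨hs, n⟩)
    refine ⟨t, ht, ht', f.cA' tN (f.e x hx s hs) hx' ?_⟩
    have m : t * s * x * (t * s)⁻¹ ∈ E := f.h.nrm.conj_mem _ hx _
    have e1 := f.ab _ n _ m
    have e2 := g3_cz (f.z s hs) (tq x hx)
    have e3 := f.ab _ (f.zE (tq x hx)) _ (f.AE (f.e x hx s hs))
    have e4 := f.ab _ (f.zE (tq x hx)) _ (f.h.nrm.conj_mem _ (f.AE (f.e x hx s hs)) t)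
    have e5 : s * t * x * (s * t)⁻¹ = t * s * x * (t * s)⁻¹ := by
      calc _ = s * t * s⁻¹ * t⁻¹ * (t * s * x * (t * s)⁻¹) * (s * t * s⁻¹ * t⁻¹)⁻¹ := by group
        _ = _ := by rw [e1]; group
    have e6 : ⁅x, s⁆ * ⁅x, t⁆ = ⁅x, t⁆ * (t * ⁅x, s⁆ * t⁻¹) := by
      calc _ = ⁅x, s⁆ * (s * ⁅x, t⁆ * s⁻¹) := by rw [e2]
        _ = x * (s * t * x * (s * t)⁻¹)⁻¹ := by simp only [commutatorElement_def]; group
        _ = _ := by rw [e5]; simp only [commutatorElement_def]; group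
    rw [← e3, mul_right_inj] at e6
    exact mul_inv_eq_iff_eq_mul.1 e6.symm
  · refine ⟨_, mul_mem ((f.q _).2 ⟨mul_mem (mul_mem hs tN) (inv_mem hs), fun x hx => ?_⟩) (inv_mem ht), n,
      mem_centralizer_iff'.2 fun x hx => ?_⟩
    · have e : ⁅x, s * t * s⁻¹⁆ = s * ⁅s⁻¹ * x * s⁻¹⁻¹, t⁆ * s⁻¹ := by simp only [commutatorElement_def]; group
      have m := tq _ (f.h.nrm.conj_mem _ hx s⁻¹)
      rw [e, g3_cz (f.z s hs) m]; exact m
    · have m0 := mul_mem (inv_mem (zpowers_le.2 f.cm (f.a x hx _ (inv_mem (mul_mem tN hs))))) hx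
      obtain ⟨y, hy⟩ : ∃ y, y = ⁅x, (t * s)⁻¹⁆⁻¹ * x := ⟨_, rfl⟩
      rw [← hy] at m0
      have e0 : x = t * s * y * (t * s)⁻¹ := by rw [hy]; simp only [commutatorElement_def]; group
      have m1 := f.a y m0 s hs
      have m2 := f.a y m0 t tN
      have e : ⁅y, s * t⁆ = ⁅y, t * s⁆ := by
        rw [cm_mul_right, cm_mul_right, g3_cz (f.z s hs) m2, g3_cz (f.z t tN) m1, f.ab _ (f.zE m1) _ (f.zE m2)]
      have m3 : s * t * y * (s * t)⁻¹ = t * s * y * (t * s)⁻¹ := by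
        calc _ = ⁅y, s * t⁆⁻¹ * y := by simp only [commutatorElement_def]; group
          _ = _ := by rw [e]; simp only [commutatorElement_def]; group
      calc _ = s * t * y * (s * t)⁻¹ * (s * t * s⁻¹ * t⁻¹) := by rw [m3, ← e0]
        _ = _ := by rw [e0]; group

theorem reg (ht : t ∈ Q) (ht' : t ∉ E) (tA : t ∈ 𝐂[A]) (hs : s ∈ N) (hs' : s ∉ Q) (hv : v ∈ E) (h : Commute s v) :
    v ∈ zpowers c := by
  haveI := f.h.nrm
  by_contra n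
  by_cases vA : v ∈ A
  · have sA := f.cA' hs vA n h
    refine f.ne fun q hq => ?_
    obtain ⟨k, hk⟩ := f.step hs hs' hq
    have := (sup_le (f.cE'.trans (centralizer_anti f.AE)) (zpowers_le.2 tA) : E ⊔ zpowers t ≤ _)
      (f.h.le_sup_of_tv (fun q hq => f.h.le ((f.q q).1 hq).1) (fun q => f.tv) ht ht' hk)
    simpa using mul_mem this (inv_mem (pow_mem sA k))
  · exact hs' (f.mQ hs hv vA (by rw [cm_eq_one.2 h]; exact one_mem _))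

theorem ess (ht : t ∈ Q) (ht' : t ∉ E) (tA : t ∈ 𝐂[A]) : EssG p E N 𝐍[zpowers c] := by
  haveI := f.h.nrm
  refine ⟨f.h.nrm, f.h.cent, f.h.syl, f.h.lt, fun e => ?_, fun R h1 h2 g hg => ?_⟩
  · obtain ⟨g, hg⟩ := f.h.exists_not_mem
    have tH := f.h.le ((f.q t).1 ht).1
    exact (f.h.not_comm (f.tv ht) (f.tv ht) tH ht' tH ht' hg).2
      ((f.tv ht).comm' (conj_mem_of_mem_normalizer (e ▸ mem_top g) (mem_zpowers c)))
  · have key : g * c * g⁻¹ ∈ zpowers c := by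
      by_cases n : R ≤ Q
      · obtain ⟨r, hr, hr'⟩ := SetLike.exists_of_lt h1
        obtain ⟨x, hx, hx'⟩ : ∃ x ∈ E, ⁅x, r⁆ ≠ 1 := by
          by_contra! m; exact hr' (f.h.cent (mem_centralizer_iff'.2 fun x hx => (cm_eq_one.1 (m x hx)).symm.eq))
        obtain ⟨k, hk⟩ := exists_zpow_of_prime (f.ex _ (f.AE f.cm)) (((f.q r).1 (n hr)).2 x hx) hx' (mem_zpowers c)
        have := zpow_mem (((f.q _).1 (n (conj_mem_of_mem_normalizer hg hr))).2 _ (f.h.nrm.conj_mem _ hx g)) k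
        rwa [← conjugate_commutatorElement, conj_zpow, ← hk] at this
      · obtain ⟨s, hs, hs'⟩ := SetLike.not_le_iff_exists.1 n
        refine f.reg ht ht' tA (h2 hs) hs' (f.h.nrm.conj_mem _ (f.AE f.cm) g) ?_
        have := (f.z _ (h2 (conj_mem_of_mem_normalizer' hg hs))).eq
        change _ = _
        calc _ = g * (g⁻¹ * s * g * c) * g⁻¹ := by group
          _ = _ := by rw [this]; group
    exact mem_normalizer_of_cj_le (by rw [cj_zpowers]; exact zpowers_le.2 key)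

theorem fin (ht : t ∈ Q) (ht' : t ∉ E) (tA : t ∈ 𝐂[A]) (hs : s ∈ N) : s ∈ Q := by
  haveI := f.h.nrm
  have h' := f.ess ht ht' tA
  have tH := h'.le ((f.q t).1 ht).1
  have T := f.tv ht
  obtain ⟨g, hg⟩ := h'.exists_not_mem
  obtain ⟨n1, n2⟩ := h'.not_comm T T tH ht' tH ht' hg
  have T' := T.conj g
  have m := f.e _ T'.mem s hs
  obtain ⟨k, hk⟩ := T'.exists_left f.cE' T.mem n1 (f.AE (inv_mem m))
  obtain ⟨l, hl⟩ := T.exists_conj T'.mem n2 (-k)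
  have dA := mul_mem (inv_mem m) (zpow_mem f.cm k)
  have td : Commute t (⁅g * c * g⁻¹, s⁆⁻¹ * c ^ k) := (mem_centralizer_iff'.1 tA _ dA).symm
  have e0 : s * (g * c * g⁻¹) * s⁻¹ = ⁅g * c * g⁻¹, s⁆⁻¹ * c ^ k * (c ^ (-k) * (g * c * g⁻¹)) := by
    simp only [commutatorElement_def]; group
  refine f.mQ hs T'.mem (fun n => n2 (mem_centralizer_iff'.1 tA _ n).symm) ?_
  suffices ⁅g * c * g⁻¹, s⁆⁻¹ * c ^ k = 1 by
    rw [mul_eq_one_iff_eq_inv, inv_inj] at this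
    rw [this]; exact zpow_mem_zpowers c k
  generalize ⁅g * c * g⁻¹, s⁆⁻¹ * c ^ k = d at *
  have e1 : (t ^ l * g)⁻¹ * (s * g) * c * ((t ^ l * g)⁻¹ * (s * g))⁻¹ = g⁻¹ * (d * (g * c * g⁻¹)) * g := by
    calc _ = g⁻¹ * (t ^ l)⁻¹ * (s * (g * c * g⁻¹) * s⁻¹) * t ^ l * g := by group
      _ = g⁻¹ * (t ^ l)⁻¹ * (d * t ^ l) * (g * c * g⁻¹) * g := by rw [e0, ← hl]; group
      _ = _ := by rw [← (td.zpow_left l).eq]; group
  have y : (t ^ l * g)⁻¹ * (s * g) ∈ 𝐍[zpowers c] := by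
    by_contra n
    refine (h'.not_comm T T tH ht' tH ht' n).2 ?_
    have := (hk.mul_right T'.comm).eq
    rw [e1]
    change _ = _
    calc _ = g⁻¹ * (g * t * g⁻¹ * (d * (g * c * g⁻¹))) * g := by group
      _ = _ := by rw [this]; group
  have y2 := conj_mem_of_mem_normalizer y (mem_zpowers c)
  rw [e1] at y2
  have y3 : d ∈ zpowers (g * c * g⁻¹) := by
    have := conj_mem_cj (mul_mem y2 (inv_mem (mem_zpowers c))) g
    rw [cj_zpowers] at this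
    convert this using 1; group
  by_contra n
  obtain ⟨j, hj⟩ := exists_zpow_of_prime T'.pow y3 n (mem_zpowers _)
  exact n2 (hj ▸ td.zpow_right j)

theorem main (ha : a ∈ N) (ha' : a ∉ E) : N ≤ E ⊔ zpowers a := by
  haveI := f.h.nrm
  have L := fun ht ht' => f.h.le_sup_of_tv (a := a) (fun q hq => f.h.le ((f.q q).1 hq).1) (fun q => f.tv) ht ht'
  by_cases n : N ≤ Q
  · exact n.trans (L (n ha) ha')
  obtain ⟨s, hs, hs'⟩ := SetLike.not_le_iff_exists.1 n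
  by_cases m : Q ≤ E
  · intro q hq
    obtain ⟨k, hk⟩ := f.step ha (fun e => ha' (m e)) hq
    simpa using mul_mem (mem_sup_left (m hk) : _ ∈ E ⊔ zpowers a) (mem_sup_right (inv_mem (npow_mem_zpowers a k)))
  · obtain ⟨t, ht, ht'⟩ := SetLike.not_le_iff_exists.1 m
    obtain ⟨r, r1, r2, r3⟩ := f.exT ht ht' hs hs'
    exact absurd (f.fin r1 r2 r3 hs) hs'

end G3F

theorem g3_line [Fact p.Prime] [Finite G] (hA : IsPGroup p A) (hN : IsPGroup p N) (nA : N ≤ 𝐍[A]) (h0 : A ≠ ⊥)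
    (cA : Nat.card A ≤ p) : ∃ c, A = zpowers c ∧ ∀ a ∈ N, Commute a c := by
  obtain ⟨c, hc, hc'⟩ := SetLike.exists_of_lt (bot_lt_iff_ne_bot.2 h0)
  have h1 : Nat.card A ≤ p * Nat.card (⊥ : Subgroup G) := by simpa using cA
  refine ⟨c, by simpa using eq_sup_zpowers_of_card hA bot_le h1 hc hc', fun a ha => cm_eq_one.1 ?_⟩
  exact cm_le_of_card hA hN nA (by rw [normalizer_bot']; exact le_top) bot_le h1 (commutator_mem_commutator hc ha)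

set_option linter.unusedVariables false in
theorem g3a [Finite G] [hq : Fact p.Prime] (hp : 5 ≤ p) (h : L0.EssG p E N H) (cE : Nat.card E = p ^ 3)
    (ex : ∀ x ∈ E, x ^ p = 1) (ab : ∀ x ∈ E, ∀ y ∈ E, x * y = y * x) : Nat.card N = p ^ 4 := by
  haveI := h.nrm
  rw [pow_succ', ← cE]
  refine card_eq_of_forall h.syl.pgrp h.lt (h.nE N) fun a ha ha' => ?_
  have b := fun L : Subgroup G => (show L ≤ 𝐍[(⊥ : Subgroup G)] by rw [normalizer_bot']; exact le_top)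
  have p0 := hq.out.pos
  have a0 : ⁅E, N⁆ ≠ ⊥ := fun e => h.lt.not_ge ((le_centralizer_iff_commutator'.2 e).trans h.cent)
  have aE : ⁅E, N⁆ ≤ E := commutator_le_left_of_le_normalizer (h.nE N)
  have a1 : ⁅E, N⁆ < E := by
    simpa using H9.sup_commutator_lt h.pE h.syl.pgrp (h.nE N) (b N) (bot_lt_iff_ne_bot.2 fun e => a0 (le_bot_iff.1 (e ▸ aE)))
  have nA : N ≤ 𝐍[⁅E, N⁆] := le_normalizer_commutator (h.nE N) le_normalizer
  have pA := h.pE.to_le aE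
  have c1 := H9.mul_card_le_of_lt_of_isPGroup h.pE a1
  by_cases s : Nat.card (⁅E, N⁆ : Subgroup G) ≤ p
  · obtain ⟨c, hc, z⟩ := g3_line pA h.syl.pgrp nA a0 s
    have cm : c ∈ E := aE (hc ▸ mem_zpowers c)
    exact h.le_sup_of_tv (Y := E) (v := c) h.le (fun q hq => ⟨fun x hx => aE (commutator_mem_commutator hx hq),
      fun x hx => hc ▸ commutator_mem_commutator hx hq, cm, ex c cm, z q hq⟩) ha ha'
  obtain ⟨k, hk⟩ := IsPGroup.iff_card.1 pA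
  have k2 : k = 2 := by
    rw [hk, cE, ← pow_succ'] at c1
    have := (Nat.pow_le_pow_iff_right hq.out.one_lt).1 c1
    have : ¬ k ≤ 1 := fun e => s (by rw [hk]; simpa using Nat.pow_le_pow_right p0 e)
    omega
  subst k2
  have c2 : Nat.card E ≤ p * Nat.card (⁅E, N⁆ : Subgroup G) := by rw [hk, cE, ← pow_succ']
  by_cases s2 : N ≤ 𝐂[⁅E, N⁆]
  · exact h.le_sup_of_axis aE c2 s2 ha ha'
  have b0 : ⁅⁅E, N⁆, N⁆ ≠ ⊥ := fun e => s2 (le_centralizer_iff_commutator'.2 e)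
  have b1 : ⁅⁅E, N⁆, N⁆ < ⁅E, N⁆ := by
    simpa using H9.sup_commutator_lt pA h.syl.pgrp nA (b N) (bot_lt_iff_ne_bot.2 a0)
  have c3 := H9.mul_card_le_of_lt_of_isPGroup pA b1
  have c4 := H9.mul_card_le_of_lt_of_isPGroup (pA.to_le b1.le) (bot_lt_iff_ne_bot.2 b0)
  rw [card_bot, mul_one] at c4
  obtain ⟨c, hc, z⟩ := g3_line (pA.to_le b1.le) h.syl.pgrp (le_normalizer_commutator nA le_normalizer) b0
    (Nat.le_of_mul_le_mul_left (by rwa [hk, pow_two] at c3) p0)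
  obtain ⟨Q, hQ⟩ := g3_exQ E z
  exact G3F.main (A := ⁅E, N⁆) ⟨h, ex, ab, aE, c2, by rw [hk, pow_two, ← hc]; exact Nat.mul_le_mul_left _ c4,
    b1.le (hc ▸ mem_zpowers c), fun x hx a ha => commutator_mem_commutator hx ha,
    fun x hx a ha => hc ▸ commutator_mem_commutator hx ha, z, s2, hQ⟩ ha ha'

end Cfsg.Agent.MQ
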