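import Cfsg.Agent.MQ.D

/-! The case of order `p ^ 5`. -/

set_option autoImplicit false

namespace Cfsg.Agent.MQ

open Subgroup Cfsg.Agent.H9 Cfsg.Agent.L0 Cfsg.Agent.MX
open scoped commutatorElement

universe u
variable {G : Type u} [Group G] [Finite G] {p n : ℕ} [hpp : Fact p.Prime]

namespace P5

theorem betw (hG : IsPGroup p G) {A B H : Subgroup G} {k : ℕ} (cA : Nat.card A = p ^ k)
    (cB : Nat.card B = p ^ (k + 1)) (h1 : A ≤ H) (h2 : H ≤ B) : H = A ∨ H = B := by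
  obtain ⟨j, hj⟩ := IsPGroup.iff_card.1 (hG.to_subgroup H)
  have p2 := hpp.out.one_lt
  have a := card_le_of_le h1
  have b := card_le_of_le h2
  rw [cA, hj, Nat.pow_le_pow_iff_right p2] at a
  rw [cB, hj, Nat.pow_le_pow_iff_right p2] at b
  rcases a.eq_or_lt with e | e
  · exact Or.inl (eq_of_le_of_card_ge h1 (by rw [cA, hj, e])).symm
  · exact Or.inr (eq_of_le_of_card_ge h2 (by rw [cB, hj, show j = k + 1 by omega]))

theorem md (h : MaxClass p n G) {i a : ℕ} (hi : 1 ≤ i) {x t : G} (hx : x ∈ gam G i)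
    (hx' : x ∉ gam G (i + 1)) (h1 : (x ^ a)⁻¹ * t ∈ gam G (i + 1)) (h2 : x⁻¹ * t ∈ gam G (i + 1)) :
    a ≡ 1 [MOD p] := by
  have p2 := hpp.out.two_le
  have e : x ^ p ∈ gam G (i + 1) := gam_anti (by omega) (mc_up h hi hx)
  set f := QuotientGroup.mk' (gam G (i + 1))
  have o : orderOf (f x) = p := orderOf_eq_prime
    (by rw [← map_pow]; exact (QuotientGroup.eq_one_iff _).2 e)
    (fun c => hx' ((QuotientGroup.eq_one_iff _).1 c))
  have e1 : f (x ^ a) = f t := QuotientGroup.eq.2 h1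
  have e2 : f x = f t := QuotientGroup.eq.2 h2
  rw [← o, ← pow_eq_pow_iff_modEq, ← map_pow, e1, pow_one, e2]

omit [Finite G] hpp in
theorem cmq {k : ℕ} {a b : G} :
    ⁅a, b⁆ ∈ gam G k ↔ a ∈ (centralizer {QuotientGroup.mk' (gam G k) b}).comap
      (QuotientGroup.mk' (gam G k)) := by
  rw [mem_comap, mem_centralizer_singleton_iff, ← commutatorElement_eq_one_iff_mul_comm,
    ← map_commutatorElement]
  exact (QuotientGroup.eq_one_iff _).symm

end P5

open P5 in
theorem p5 {E P : Subgroup G} {τ : G → G} {v1 w v2 u : G} (h : MaxClass p n G) (hp : 5 ≤ p)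
    (d : Dt p E P τ v1 w v2 u) (hn : n = 5) (a : A0 p E τ v1 w) : P ≠ ⊤ ∧ Chn p P τ := by
  subst hn
  obtain ⟨cE0, zN, cN, v1ne, iE, iN, iE0, -, nY, iX⟩ := a
  have p2 := hpp.out.one_lt
  have hG := h.isPGroup
  have ct : Nat.card (⊤ : Subgroup G) = p ^ (4 + 1) := by rw [card_top, h.card]
  have c1 : Nat.card (gam G 1) = p ^ 3 := h.card_lcs (i := 1) le_rfl (by omega)
  have c2 : Nat.card (gam G 2) = p ^ 2 := h.card_lcs (i := 2) (by omega) (by omega)
  have c3 : Nat.card (gam G 3) = p ^ 1 := h.card_lcs (i := 3) (by omega) (by omega)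
  have g4 : gam G 4 = ⊥ := mc_bot h (by omega)
  have n1 : tsc G 1 ≠ ⊤ := mc_tsc_ne h (by omega)
  have ab : ∀ x ∈ E, ∀ y ∈ E, x * y = y * x := fun x hx y hy => (d.cen y).1 hy x hx
  have v1E : v1 ∈ E := d.gen ▸ subset_closure (by simp)
  have wE : w ∈ E := d.gen ▸ subset_closure (by simp)
  have v2E : v2 ∈ E := d.gen ▸ subset_closure (by simp)
  have EN : E ≤ normalizer (E : Set G) := le_normalizer
  have t21 : tsc G 2 ≤ tsc G 1 := fun s hs => by_contra fun c => mc_tsc_two h le_rfl c hs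
  have t12 : tsc G 1 ≤ tsc G 2 := fun s hs => by_contra fun c =>
    n1 (top_le_iff.1 ((mc_tsc_max h (by omega) c).symm.le.trans (sup_le t21 (zpowers_le.2 hs))))
  have EP : E ≤ tsc G 1 := fun s hs => by_contra fun c => by
    have gs : Good 5 s := fun j hj => by
      have : j = 0 ∨ j = 1 ∨ j = 2 := by omega
      rcases this with rfl | rfl | rfl
      exacts [fun e => c (tsc_zero_le e), c, fun e => c (t21 e)]
    have b := card_le_of_le (fun x hx => mem_centralizer_singleton_iff.2 (ab x hx s hs) :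
      E ≤ centralizer {s})
    rw [gc h gs, d.cE, Nat.pow_le_pow_iff_right p2] at b
    omega
  have g2E : gam G 2 ≤ E := fun g hg => (d.cen g).2 fun x hx => by
    have := t12 (EP hx) g hg
    rw [show gam G (2 + 1 + 1) = ⊥ from g4, mem_bot, commutatorElement_eq_one_iff_mul_comm] at this
    exact this.symm
  have e0 : gam G 2 = closure ({v1, w} : Set G) :=
    eq_of_le_of_card_ge (nY _ inferInstance g2E) (by rw [cE0, c2])
  have NP1 : normalizer (E : Set G) ≤ tsc G 1 := fun y hy => t21 fun x hx => by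
    rw [commutatorElement_eq_one_iff_mul_comm.2 (((zN x).1 (e0 ▸ hx)).2 y hy)]
    exact one_mem _
  have eN : tsc G 1 = normalizer (E : Set G) := (betw hG d.cN ct NP1 le_top).resolve_right n1
  have g1N : gam G 1 ≤ normalizer (E : Set G) := eN ▸ g1_le 1
  have e3 : zpowers v1 = gam G 3 := by
    haveI : (zpowers v1).Normal := by rw [← cN, ← eN]; infer_instance
    have o : Nat.card (zpowers v1) = p := by
      rw [Nat.card_zpowers]; exact orderOf_eq_prime (d.ex _ v1E) v1ne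
    refine h.eq_lcs_of_index (zpowers v1) (r := 4) (by omega) ?_
    have := (zpowers v1).card_mul_index
    rw [o, h.card, show p ^ 5 = p * p ^ 4 by ring] at this
    exact Nat.eq_of_mul_eq_mul_left (by omega) this
  let φ : P →* G := MonoidHom.mk' (fun x => τ x) fun x y => d.hom _ x.2 _ y.2
  have i1 : Inv τ (gam G 1) :=
    iX _ g1N (e0 ▸ gam_anti (by omega)) c1 (by rw [normalizer_eq_top (gam G 1)]; exact le_top)
  have i2 : Inv τ (gam G 2) := e0 ▸ iE0
  have i3 : Inv τ (gam G 3) := by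
    rw [← e3]
    rintro _ ⟨k, rfl⟩
    have e : τ (v1 ^ k) = τ v1 ^ k := map_zpow φ ⟨v1, d.NP (EN v1E)⟩ k
    show τ (v1 ^ k) ∈ _
    rw [e, d.t1]
    exact zpow_mem (inv_mem (mem_zpowers v1)) k
  have τ1 : τ 1 = 1 := map_one φ
  rcases betw hG d.cN ct d.NP le_top with e | e
  · refine ⟨by rw [e, ← eN]; exact n1, fun i => if i = 0 then P else gam G i, 4, rfl, g4, fun i => ?_⟩
    rcases i with _ | i
    · refine ⟨e ▸ g1N, ?_, d.mem, le_rfl⟩
      show Nat.card P ≤ p * Nat.card (gam G 1)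
      rw [e, d.cN, c1]
      exact (by ring : p ^ 4 = p * p ^ 3).le
    · refine ⟨gam_anti (Nat.le_succ (i + 1)), mc_card_le h (j := i + 1) (by omega), ?_, ?_⟩
      · show Inv τ (gam G (i + 1))
        rcases i with _ | _ | _ | i
        exacts [i1, i2, i3, by
          rw [mc_bot h (by omega)]
          intro x hx
          rw [mem_bot.1 hx, τ1]
          exact one_mem _]
      · show _ ≤ normalizer (gam G (i + 1) : Set G)
        rw [normalizer_eq_top (gam G (i + 1))]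
        exact le_top
  exfalso
  subst e
  let ψ : G →* G := MonoidHom.mk' τ fun x y => d.hom _ (mem_top x) _ (mem_top y)
  have hψ : ∀ x, τ x = ψ x := fun _ => rfl
  have v2n : v2 ∉ gam G 1 := fun c => by
    have l : E ≤ gam G 1 := by
      rw [d.gen, closure_le]
      have l0 : closure ({v1, w} : Set G) ≤ gam G 1 := e0 ▸ gam_anti (by omega)
      rintro x (rfl | rfl | rfl)
      exacts [l0 (subset_closure (by simp)), l0 (subset_closure (by simp)), c]
    have e := eq_of_le_of_card_ge l (by rw [c1, d.cE])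
    have := d.cN
    rw [e, normalizer_eq_top (gam G 1), ct, Nat.pow_right_inj p2] at this
    omega
  have eI : E ⊓ gam G 1 = gam G 2 :=
    (betw hG c2 d.cE (le_inf g2E (gam_anti (by omega))) inf_le_left).resolve_right fun c =>
      v2n (c.symm.le v2E).2
  let K : Subgroup G :=
    { carrier := {y | y ∈ normalizer (E : Set G) ∧ y⁻¹ * ψ y ∈ E}
      one_mem' := ⟨one_mem _, by simp [one_mem]⟩
      mul_mem' := fun {x y} hx hy => ⟨mul_mem hx.1 hy.1, by
        rw [show (x * y)⁻¹ * ψ (x * y) = y⁻¹ * (x⁻¹ * ψ x) * y⁻¹⁻¹ * (y⁻¹ * ψ y) by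
          rw [map_mul]; group]
        exact mul_mem ((mem_normalizer_iff.1 (inv_mem hy.1) _).1 hx.2) hy.2⟩
      inv_mem' := fun {x} hx => ⟨inv_mem hx.1, by
        rw [show x⁻¹⁻¹ * ψ x⁻¹ = x * (x⁻¹ * ψ x)⁻¹ * x⁻¹ by rw [map_inv]; group]
        exact (mem_normalizer_iff.1 hx.1 _).1 (inv_mem hx.2)⟩ }
  have eK : K = normalizer (E : Set G) :=
    (betw hG (H := K) d.cE d.cN (fun x hx => ⟨EN hx, mul_mem (inv_mem hx) (iE x hx)⟩)
      fun x hx => hx.1).resolve_left fun c => d.uE (c.le ⟨d.uN, d.tu⟩)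
  have w1 : ∀ y ∈ gam G 1, y⁻¹ * ψ y ∈ gam G 2 := fun y hy =>
    eI.le (mem_inf.2 ⟨(eK.symm.le (g1N hy)).2, mul_mem (inv_mem hy) (i1 y hy)⟩)
  have w3 : w ∉ gam G 3 := fun c => by
    have l : closure ({v1, w} : Set G) ≤ gam G 3 := by
      rw [closure_le]
      rintro x (rfl | rfl)
      exacts [e3.le (mem_zpowers _), c]
    have := card_le_of_le l
    rw [cE0, c3, Nat.pow_le_pow_iff_right p2] at this
    omega
  have w2 : ∀ y ∈ gam G 2, y⁻¹ * ψ y ∈ gam G 3 := fun y hy => by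
    obtain ⟨m, hm⟩ := mc_lev h (j := 2) (by omega) (e0.symm.le (subset_closure (by simp))) w3 hy
    have b := i3 _ hm
    rw [hψ, map_mul, map_inv, map_pow, ← hψ w, d.tw] at b
    rw [show y⁻¹ * ψ y = ((w ^ m)⁻¹ * y)⁻¹ * ((w ^ m)⁻¹ * ψ y) by group]
    exact mul_mem (inv_mem hm) b
  obtain ⟨s, hs⟩ : ∃ s, s ∉ tsc G 1 := by
    by_contra! c
    exact n1 (eq_top_iff.2 fun x _ => c x)
  have hm := mc_tsc_max h le_rfl hs
  obtain ⟨σ, z, hz, hσ⟩ : ∃ σ : ℕ, ∃ z ∈ tsc G 1, ψ s = s ^ σ * z := by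
    have b : ψ s ∈ zpowers s ⊔ tsc G 1 := by rw [sup_comm, hm]; exact mem_top _
    obtain ⟨x, hx, z, hz, e⟩ := mem_sup_of_normal_right.1 b
    obtain ⟨σ, rfl⟩ := (mem_powers_iff_mem_zpowers.2 hx : ∃ k : ℕ, s ^ k = x)
    exact ⟨σ, z, hz, e.symm⟩
  have eP : gam G 1 ⊔ zpowers v2 = normalizer (E : Set G) :=
    (betw hG c1 d.cN le_sup_left (sup_le g1N (zpowers_le.2 (EN v2E)))).resolve_left fun c =>
      v2n (c.le (mem_sup_right (mem_zpowers v2)))
  have NN : ∀ x ∈ tsc G 1, ∀ y ∈ tsc G 1, ⁅x, y⁆ ∈ gam G 2 := fun x hx y hy =>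
    gam_anti (by omega : 2 ≤ 3) (e3.le (cN.le (commutator_mem_commutator (eN.le hx) (eN.le hy))))
  have dn : ⁅v2, s⁆ ∉ gam G 2 := fun c => by
    have b : tsc G 1 ⊔ zpowers s ≤ (centralizer {QuotientGroup.mk' (gam G 2) s}).comap
        (QuotientGroup.mk' (gam G 2)) := by
      refine sup_le ?_ (zpowers_le.2 (cmq.1 (by simp [one_mem])))
      rw [eN, ← eP]
      exact sup_le (fun x hx => cmq.1 (gam_cm hx s)) (zpowers_le.2 (cmq.1 c))
    exact hs (tsc_zero_le fun x _ => cmq.2 (b (hm.symm.le (mem_top x))))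
  have d1 : ⁅v2, s⁆ ∈ gam G 1 := gam_cm (i := 0) (mem_top v2) s
  have spl : ∀ x : G, ⁅x, s ^ σ * z⁆ = ⁅x, s ^ σ⁆ * (s ^ σ * ⁅x, z⁆ * (s ^ σ)⁻¹) := fun x => by
    simp only [commutatorElement_def]; group
  have m1 : (p - 1) * σ ≡ 1 [MOD p] := by
    refine md h (i := 1) le_rfl d1 dn ?_ (w1 _ d1)
    have b := cm_lin (i := 0) (m := p - 1) (u := v2⁻¹) (mem_top v2) (by
      rw [← mul_inv_rev, ← pow_succ', show p - 1 + 1 = p by omega, d.ex _ v2E, inv_one]
      exact one_mem _) s σ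
    rw [map_commutatorElement, hσ, ← hψ, d.t2, spl, ← mul_assoc]
    exact mul_mem b (Normal.conj_mem inferInstance _ (NN _ (inv_mem (EP v2E)) _ hz) _)
  have m2 : 1 * σ ≡ 1 [MOD p] := by
    refine md h (i := 2) (by omega) (gam_cm d1 s) (mc_cm_not h le_rfl hs d1 dn) ?_ (w2 _ (gam_cm d1 s))
    have b := cm_lin (i := 1) (m := 1) (u := ψ ⁅v2, s⁆) d1 (by rw [pow_one]; exact w1 _ d1) s σ
    rw [map_commutatorElement ψ ⁅v2, s⁆, hσ, spl, ← mul_assoc]
    exact mul_mem b (Normal.conj_mem inferInstance _ (hz _ (i1 _ d1)) _)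
  rw [one_mul] at m2
  have m3 : p - 1 ≡ 1 [MOD p] := by
    have := (m2.mul_left (p - 1)).symm.trans m1
    rwa [mul_one] at this
  have := Nat.ModEq.eq_of_lt_of_lt m3 (by omega) (by omega)
  omega

end Cfsg.Agent.MQ
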