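import Cfsg.Agent.MQ.D

/-! The case in which the second centre lies in `E`. -/

set_option autoImplicit false

namespace Cfsg.Agent.MQ

open Subgroup Cfsg.Agent.H9 Cfsg.Agent.L0
open Cfsg.Agent.H23.LF (sup_zp_of_card mem_sup_zp)
open scoped commutatorElement

universe u
variable {G : Type u} [Group G] [Finite G] {p n : ℕ} [hp : Fact p.Prime]

namespace PA1

omit hp in
theorem nrm {E : Subgroup G} {g : G} (h : ∀ x ∈ E, ⁅g, x⁆ ∈ E) : g ∈ normalizer (E : Set G) :=
  mem_normalizer_fintype fun x hx => by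
    have := E.mul_mem (h x hx) hx
    simpa [commutatorElement_def] using this

theorem nle1 (h : MaxClass p n G) (h4 : 4 ≤ n) : ¬ tsc G 1 ≤ gam G 1 := fun e => by
  obtain ⟨s, hs⟩ : ∃ s, s ∉ tsc G 1 := by
    by_contra! c
    exact mc_tsc_ne h (j := 1) (by omega) (eq_top_iff.2 fun g _ => c g)
  have a := (mc_tsc_max h le_rfl hs).ge.trans (sup_le_sup_right e _)
  refine mc_not_le h (j := 1) (by omega) (cm_top_le_of_cyc (N := gam G 1) ⟨⟨s, fun q => ?_⟩⟩)
  obtain ⟨g, rfl⟩ := QuotientGroup.mk_surjective q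
  obtain ⟨y, hy, z, ⟨k, rfl⟩, rfl⟩ := mem_sup_of_normal_left.1 (a (mem_top g))
  exact ⟨k, by rw [QuotientGroup.mk_mul, (QuotientGroup.eq_one_iff y).2 hy, one_mul]; rfl⟩

end PA1

theorem pa1 {E P : Subgroup G} {τ : G → G} {v1 w v2 u : G} (h : MaxClass p n G) (_hp : 5 ≤ p)
    (d : Dt p E P τ v1 w v2 u) (hn : 6 ≤ n) (a : A0 p E τ v1 w) (hZ : gam G (n - 3) ≤ E) :
    SA n E τ v1 w v2 := by
  obtain ⟨c0, -, -, -, iE, -, i0, -, nY, iX⟩ := a
  have c3 : Nat.card (gam G (n - 3)) = p ^ 2 := by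
    rw [h.card_lcs (by omega) (by omega)]; congr 1; omega
  have c4 : Nat.card (gam G (n - 4)) = p ^ 3 := by
    rw [h.card_lcs (by omega) (by omega)]; congr 1; omega
  have c5 : Nat.card (gam G (n - 5)) = p ^ 4 := by
    rw [h.card_lcs (by omega) (by omega)]; congr 1; omega
  have z2 : closure ({v1, w} : Set G) = gam G (n - 3) :=
    (eq_of_le_of_card_ge (nY _ inferInstance hZ) (c0.trans c3.symm).le).symm
  have m2 : v2 ∈ E := d.gen ▸ subset_closure (by simp)
  have l34 : gam G (n - 3) ≤ gam G (n - 4) := gam_anti (by omega)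
  have cm : ∀ {g x : G}, g ∈ gam G (n - 4) → ⁅g, x⁆ ∈ gam G (n - 3) := fun {g x} hg => by
    have := gam_cm hg x
    rwa [show n - 4 + 1 = n - 3 by omega] at this
  have l4 : gam G (n - 4) ≤ normalizer (E : Set G) := fun g hg => PA1.nrm fun x _ => hZ (cm hg)
  have nE : ¬ E ≤ gam G (n - 4) := fun e => by
    have e1 := eq_of_le_of_card_ge e (c4.trans d.cE.symm).le
    have e2 := d.cN
    rw [e1, normalizer_eq_top, card_top, h.card] at e2
    have := Nat.pow_right_injective hp.out.two_le e2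
    omega
  have sE : ∀ x ∈ E, x ∉ gam G (n - 3) → gam G (n - 3) ⊔ zpowers x = E := fun x hx hx' =>
    sup_zp_of_card (h.isPGroup.to_subgroup E) hZ (by rw [d.cE, c3, pow_succ']) hx hx'
  have iE4 : ∀ x ∈ E, x ∈ gam G (n - 4) → x ∈ gam G (n - 3) := fun x hx hx' => by
    by_contra c
    exact nE ((sE x hx c).ge.trans (sup_le l34 (zpowers_le.2 hx')))
  have n3 : v2 ∉ gam G (n - 3) := fun e => nE (by
    rw [d.gen, closure_le]
    rintro x (rfl | rfl | rfl)
    exacts [l34 (z2 ▸ subset_closure (by simp)), l34 (z2 ▸ subset_closure (by simp)), l34 e])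
  have n4 : v2 ∉ gam G (n - 4) := fun e => n3 (iE4 _ m2 e)
  have sN : gam G (n - 4) ⊔ zpowers v2 = normalizer (E : Set G) :=
    sup_zp_of_card (h.isPGroup.to_subgroup _) l4 (by rw [d.cN, c4, pow_succ']) (le_normalizer m2) n4
  have i4 : Inv τ (gam G (n - 4)) :=
    iX _ l4 (z2 ▸ l34) c4 (by rw [normalizer_eq_top (gam G (n - 4))]; exact le_top)
  have nr : ∀ g, ⁅g, v2⁆ ∈ gam G (n - 3) → g ∈ normalizer (E : Set G) := fun g hg =>
    mem_normalizer_fintype fun x hx => by
      have hx' : x ∈ gam G (n - 3) ⊔ zpowers v2 := (sE v2 m2 n3).ge hx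
      obtain ⟨y, hy, _, ⟨k, rfl⟩, rfl⟩ := mem_sup_of_normal_left.1 hx'
      have e1 : g * v2 * g⁻¹ ∈ E := by
        simpa [commutatorElement_def] using E.mul_mem (hZ hg) m2
      have e2 := E.mul_mem (hZ (Normal.conj_mem inferInstance y hy g)) (E.zpow_mem e1 k)
      rw [conj_zpow] at e2
      show g * (y * v2 ^ k) * g⁻¹ ∈ E
      convert e2 using 1
      group
  have e1 : v2 ∉ tsc G 1 := fun e => by
    have b5 := MX.bl h (l := n - 5) (by omega) (by omega)
    have t5 : ∀ {x g : G}, x ∈ gam G (n - 5) → g ∈ tsc G 1 → ⁅x, g⁆ ∈ gam G (n - 3) :=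
      fun {x g} hx hg => by
        have := (b5.ge hg) x hx
        rwa [show n - 5 + 1 + 1 = n - 3 by omega] at this
    have e5 : gam G (n - 5) = normalizer (E : Set G) :=
      eq_of_le_of_card_ge (fun g hg => nr g (t5 hg e)) (d.cN.trans c5.symm).le
    refine PA1.nle1 h (by omega) fun g hg => gam_anti (show 1 ≤ n - 5 by omega) ?_
    rw [e5]
    refine nr g ?_
    rw [← commutatorElement_inv]
    exact inv_mem (t5 (e5.ge (le_normalizer m2)) hg)
  obtain ⟨y, hy, _, ⟨k, rfl⟩, hu⟩ := mem_sup_of_normal_left.1 (sN.ge d.uN)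
  have mk : v2 ^ k ∈ E := E.zpow_mem m2 k
  have y3 : y ∉ gam G (n - 3) := fun e => d.uE (hu ▸ E.mul_mem (hZ e) mk)
  refine ⟨e1, fun x hx => ?_, z2, fun e => ?_, sN.symm, i4, z2 ▸ i0, y, hy, y3, ?_⟩
  · rw [commutatorElement_eq_one_iff_mul_comm.2 ((d.cen v2).1 m2 x (hZ hx))]
    exact one_mem _
  · refine mc_cm_not h (j := n - 4) (by omega) (s := v2)
      (by rw [MX.bl h (by omega) (by omega)]; exact e1) hy
      (by rwa [show n - 4 + 1 = n - 3 by omega]) ?_
    rw [show n - 4 + 1 + 1 = n - 2 by omega, ← commutatorElement_inv]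
    refine inv_mem ?_
    rw [← d.c1, ← hu] at e
    convert e using 1
    simp only [commutatorElement_def]
    group
  · refine iE4 _ ?_ (mul_mem (inv_mem hy) (i4 y hy))
    have e := d.tu
    rw [← hu, d.hom y (d.NP (l4 hy)) _ (d.NP (le_normalizer mk))] at e
    have e2 := E.mul_mem (E.mul_mem mk e) (E.inv_mem (iE _ mk))
    convert e2 using 1
    group

end Cfsg.Agent.MQ
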