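import Cfsg.Agent.MQ.D

/-! The shape of `P` in the case `Z₂ ≤ E`. -/

set_option autoImplicit false
set_option linter.unusedSectionVars false

namespace Cfsg.Agent.MQ

open Subgroup Cfsg.Agent.H9 Cfsg.Agent.L0
open Cfsg.Agent.H23.LF (sup_zp_of_card mem_sup_zp)
open scoped commutatorElement

universe u
variable {G : Type u} [Group G] [Finite G] {p n : ℕ} [hp : Fact p.Prime]
  {E P : Subgroup G} {τ : G → G} {v1 w v2 u : G}

namespace PA2

theorem ce (h : MaxClass p n G) (hn : 6 ≤ n) {t : G} (ht : t ∈ tsc G (n - 3)) (ht' : t ∉ gam G 1) :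
    gam G 1 ⊔ zpowers t = tsc G (n - 3) := by
  have := mc_card_ne_top h (mc_tsc_ne h (j := n - 3) (by omega))
  rw [inf_eq_right.2 (MX.g1_le _)] at this
  exact sup_zp_of_card (h.isPGroup.to_subgroup _) (MX.g1_le _) this ht ht'

theorem lev {x : G} {a : ℕ} (hx : x ∈ gam G a) : ∀ b, a ≤ b → x ∉ gam G b →
    ∃ k, a ≤ k ∧ k < b ∧ x ∈ gam G k ∧ x ∉ gam G (k + 1) := by
  intro b hb
  induction b, hb using Nat.le_induction with
  | base => exact fun e => absurd hx e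
  | succ b hb ih =>
    intro e
    by_cases c : x ∈ gam G b
    · exact ⟨b, hb, by omega, c, e⟩
    · obtain ⟨k, k1, k2, k3⟩ := ih c
      exact ⟨k, k1, by omega, k3⟩

/-- `τ` as a homomorphism -/
def ph (d : Dt p E P τ v1 w v2 u) : P →* G := MonoidHom.mk' (fun x => τ x) fun a b => d.hom a a.2 b b.2

theorem cm (d : Dt p E P τ v1 w v2 u) {x y : G} (hx : x ∈ P) (hy : y ∈ P) :
    τ ⁅x, y⁆ = ⁅τ x, τ y⁆ := map_commutatorElement (ph d) ⟨x, hx⟩ ⟨y, hy⟩

theorem sur (d : Dt p E P τ v1 w v2 u) {X : Subgroup G} (hX : X ≤ P) (i : Inv τ X) {y : G}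
    (hy : y ∈ X) : ∃ x ∈ X, τ x = y := by
  obtain ⟨x, hx⟩ := Finite.surjective_of_injective (f := fun x : X => (⟨τ x, i x x.2⟩ : X))
    (fun a b e => Subtype.ext (d.inj _ (hX a.2) _ (hX b.2) (congrArg Subtype.val e))) ⟨y, hy⟩
  exact ⟨x, x.2, congrArg Subtype.val hx⟩

section
variable (h : MaxClass p n G) (hn : 6 ≤ n) (s : SA n E τ v1 w v2)
include h hn s

theorem e1 {l : ℕ} (h1 : 1 ≤ l) (hl : l + 4 ≤ n) : v2 ∉ tsc G l := MX.bl h h1 hl ▸ s.e1

theorem eg : v2 ∉ gam G 1 := fun e => s.e1 (MX.g1_le 1 e)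

theorem top {K : Subgroup G} (h1 : gam G 1 ≤ K) (h2 : v2 ∈ K) {y : G} (hy : y ∈ K)
    (hy' : y ∉ tsc G (n - 3)) : K = ⊤ := by
  rw [eq_top_iff, ← mc_tsc_max h (by omega) hy', ← ce h hn s.e2 (eg h hn s)]
  exact sup_le (sup_le h1 (zpowers_le.2 h2)) (zpowers_le.2 hy)

theorem nc {y : G} (hy : y ∉ tsc G (n - 3)) : ⁅y, v2⁆ ∉ gam G 2 := fun c => by
  have := top h hn s (K := (centralizer {QuotientGroup.mk' (gam G 2) v2}).comap
    (QuotientGroup.mk' (gam G 2))) (fun x hx => mem_centralizer_singleton_iff.2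
      (MX.BL.cq (gam_cm hx v2))) (mem_centralizer_singleton_iff.2 rfl)
      (mem_centralizer_singleton_iff.2 (MX.BL.cq c)) hy
  refine s.e1 (tsc_zero_le fun x _ => MX.BL.q1.1 ?_)
  rw [map_commutatorElement, commutatorElement_eq_one_iff_mul_comm]
  exact mem_centralizer_singleton_iff.1 (mem_comap.1 (this.ge (mem_top x)))

theorem np {x : G} (hx : x ∈ tsc G (n - 3)) (hx' : x ∉ gam G 1) {l : ℕ} (h1 : 1 ≤ l)
    (hl : l + 4 ≤ n) : x ∉ tsc G l := fun c => e1 h hn s h1 hl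
  ((ce h hn hx hx').ge.trans (sup_le (MX.g1_le l) (zpowers_le.2 c)) s.e2)

variable (d : Dt p E P τ v1 w v2 u)
include d

theorem g4 : gam G (n - 4) ≤ P := le_sup_left.trans (s.nE.ge.trans d.NP)

theorem eP : v2 ∈ P := d.NP (s.nE.ge (mem_sup_right (mem_zpowers v2)))

theorem up : ∀ m k, k + m = n - 4 → 1 ≤ k → ∀ x ∈ P, x ∈ gam G k → x ∉ gam G (k + 1) →
    gam G k ≤ P := by
  intro m
  induction m with
  | zero => exact fun k e _ _ _ _ _ => (show k = n - 4 from e) ▸ g4 h hn s d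
  | succ m ih =>
    intro k e h1 x xP hx hx' y hy
    have := ih (k + 1) (by omega) (by omega) ⁅x, v2⁆ (mul_mem (mul_mem (mul_mem xP (eP h hn s d))
      (inv_mem xP)) (inv_mem (eP h hn s d))) (gam_cm hx v2)
      (mc_cm_not h h1 (e1 h hn s h1 (by omega)) hx hx')
    obtain ⟨a, ha⟩ := mc_lev h h1 hx hx' hy
    rw [← mul_inv_cancel_left (x ^ a) y]
    exact mul_mem (pow_mem xP a) (this ha)

theorem six (h6 : n = 6) (hP : P = tsc G (n - 3)) (i2 : Inv τ (gam G 2)) : Inv τ (gam G 1) := by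
  intro y hy
  by_contra hy'
  have g1 : gam G 1 ≤ P := hP ▸ MX.g1_le _
  have i3 : Inv τ (gam G 3) := by simpa [h6] using s.i3
  have z3 : closure ({v1, w} : Set G) = gam G 3 := by simpa [h6] using s.z2
  let A : Subgroup G := ((gam G 1).subgroupOf P).map (ph d)
  have mA : ∀ x ∈ gam G 1, τ x ∈ A := fun x hx => ⟨⟨x, g1 hx⟩, hx, rfl⟩
  have g2 : gam G 2 ≤ A := fun x hx => by
    obtain ⟨z, hz, rfl⟩ := sur d ((gam_anti (by omega)).trans g1) i2 hx
    exact mA z (gam_anti (by omega) hz)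
  obtain ⟨a, ha, m, e⟩ := mem_sup_zp (A := gam G 1) (x := τ y) (by simp [normalizer_eq_top])
    ((ce h hn (hP ▸ d.mem y (g1 hy)) hy').ge s.e2)
  obtain ⟨r, hr⟩ : ∃ r, r ∉ tsc G (n - 3) := by
    by_contra! c
    exact mc_tsc_ne h (j := n - 3) (by omega) (eq_top_iff.2 fun x _ => c x)
  have c1 : ⁅r, v2⁆ ∈ gam G 1 := gam_cm (i := 0) (mem_top r) v2
  obtain ⟨k, hk⟩ := mc_lev h le_rfl (inv_mem c1) (fun c => nc h hn s hr (inv_mem_iff.1 c)) ha
  rw [inv_pow, inv_inv] at hk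
  have pw : ∀ k : ℕ, QuotientGroup.mk' (gam G 2) (r ^ k * v2 * (r ^ k)⁻¹) =
      QuotientGroup.mk' (gam G 2) (⁅r, v2⁆ ^ k * v2) := fun k => by
    induction k with
    | zero => simp
    | succ k ih =>
      have cc := ((MX.BL.cz c1 (QuotientGroup.mk' (gam G 2) r)).pow_left k).eq
      rw [show r ^ (k + 1) * v2 * (r ^ (k + 1))⁻¹ = r * (r ^ k * v2 * (r ^ k)⁻¹) * r⁻¹ by group,
        map_mul, map_mul, ih, map_mul, map_pow, ← mul_assoc, ← cc,
        show ⁅r, v2⁆ ^ (k + 1) * v2 = ⁅r, v2⁆ ^ k * (r * v2 * r⁻¹) by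
          rw [pow_succ, commutatorElement_def]; group]
      simp only [map_mul, map_pow, mul_assoc]
  have eA : r ^ k * v2 * (r ^ k)⁻¹ ∈ A := by
    obtain ⟨z, hz, e'⟩ := (QuotientGroup.mk'_eq_mk' _).1 (pw k).symm
    rw [← e']
    refine mul_mem ?_ (g2 hz)
    nth_rewrite 2 [e]
    rw [← mul_assoc]
    exact mul_mem (g2 hk) (zpow_mem (mA y hy) m)
  generalize r ^ k = g at eA
  have z3E : gam G 3 ≤ E := by
    rw [← z3, d.gen]
    exact closure_mono (by intro x; simp only [Set.mem_insert_iff, Set.mem_singleton_iff]; tauto)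
  have EA : E ≤ A.comap (MulAut.conj g).toMonoidHom := by
    have : gam G 3 ≤ A.comap (MulAut.conj g).toMonoidHom := fun x hx =>
      g2 (gam_anti (by omega) (Normal.conj_mem inferInstance x hx g))
    rw [d.gen, closure_le]
    rintro x (rfl | rfl | rfl)
    · exact this (z3 ▸ subset_closure (by simp))
    · exact this (z3 ▸ subset_closure (by simp))
    · exact eA
  let X : Subgroup G := ((E.comap (MulAut.conj g⁻¹).toMonoidHom).comap (ph d)).map P.subtype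
  have mX : ∀ x, x ∈ X ↔ x ∈ P ∧ g⁻¹ * τ x * g ∈ E := fun x =>
    ⟨by rintro ⟨⟨x, hx⟩, h1, rfl⟩; exact ⟨hx, by simpa [ph] using h1⟩,
      fun ⟨hx, h1⟩ => ⟨⟨x, hx⟩, by simpa [ph] using h1, rfl⟩⟩
  have hc := d.fn X g mX fun y hy => by
    rw [hP]
    exact Normal.conj_mem inferInstance _ (hP ▸ d.NP (le_normalizer hy)) g
  have X3 : gam G 3 ≤ X := fun x hx => (mX x).2 ⟨g1 (gam_anti (by omega) hx),
    z3E (Normal.conj_mem' inferInstance _ (i3 x hx) g)⟩
  have X1 : X ≤ gam G 1 := fun x hx => by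
    obtain ⟨h1, h2⟩ := (mX x).1 hx
    obtain ⟨z, hz, e⟩ := EA h2
    have : τ z = τ x := by simpa [ph, mul_assoc] using e
    exact d.inj _ z.2 _ h1 this ▸ hz
  have N1 : tsc G 1 ≤ normalizer (X : Set G) := fun t ht => mem_normalizer_fintype fun x hx => by
    rw [show t * x * t⁻¹ = ⁅x, t⁆⁻¹ * x by simp only [commutatorElement_def]; group]
    exact mul_mem (inv_mem (X3 (ht x (X1 hx)))) hx
  have lt : gam G 1 < tsc G 1 := lt_of_le_of_ne (MX.g1_le 1) fun e =>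
    mc_tsc_ne h (j := n - 3) (by omega) (by
      rw [← ce h hn s.e2 (eg h hn s), e, mc_tsc_max h le_rfl s.e1])
  have c4 : Nat.card (gam G 1) = p ^ 4 := by simpa [h6] using h.card_lcs (i := 1) le_rfl (by omega)
  exact lt.ne (eq_of_le_of_card_ge lt.le ((card_le_of_le N1).trans (c4 ▸ hc)))

end

end PA2

open PA2 in
theorem pa2 (h : MaxClass p n G) (_hp : 5 ≤ p) (d : Dt p E P τ v1 w v2 u) (hn : 6 ≤ n)
    (s : SA n E τ v1 w v2) : P = ⊤ ∨ ∃ j, 1 ≤ j ∧ j ≤ n - 4 ∧ P = gam G j ⊔ zpowers v2 ∧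
      ∀ i, j ≤ i → i ≤ n - 3 → Inv τ (gam G i) := by
  classical
  refine or_iff_not_imp_left.2 fun hP => ?_
  have eP := eP h hn s d
  have PC : P ≤ tsc G (n - 3) := fun y hy => by_contra fun c => hP (top h hn s
    (up h hn s d (n - 5) 1 (by omega) le_rfl _ (mul_mem (mul_mem (mul_mem hy eP) (inv_mem hy))
      (inv_mem eP)) (gam_cm (i := 0) (mem_top y) v2) (nc h hn s c)) eP hy c)
  have ex : ∃ j, 1 ≤ j ∧ gam G j ≤ P := ⟨n - 4, by omega, g4 h hn s d⟩
  have j4 : Nat.find ex ≤ n - 4 := Nat.find_min' ex ⟨by omega, g4 h hn s d⟩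
  obtain ⟨j1, jP⟩ := Nat.find_spec ex
  have jm := fun k (hk : k < Nat.find ex) => Nat.find_min ex hk
  generalize Nat.find ex = j at j4 j1 jP jm
  have Pj : ∀ x ∈ P, x ∈ gam G 1 → x ∈ gam G j := fun x xP hx => by_contra fun c => by
    obtain ⟨k, k1, k2, k3, k4⟩ := lev hx j j1 c
    exact jm k k2 ⟨k1, up h hn s d (n - 4 - k) k (by omega) k1 x xP k3 k4⟩
  have eq : P = gam G j ⊔ zpowers v2 := by
    refine le_antisymm (fun y hy => ?_) (sup_le jP (zpowers_le.2 eP))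
    obtain ⟨a, ha, m, rfl⟩ := mem_sup_zp (A := gam G 1) (x := v2) (by simp [normalizer_eq_top])
      ((ce h hn s.e2 (eg h hn s)).ge (PC hy))
    exact mul_mem (mem_sup_left (Pj a ((mul_mem_cancel_right (zpow_mem eP m)).1 hy) ha))
      (mem_sup_right (zpow_mem (mem_zpowers _) m))
  have nl : ∀ k, k + 1 ≤ n - 1 → ∃ y ∈ gam G k, y ∉ gam G (k + 1) := fun k hk =>
    SetLike.not_le_iff_exists.1 (mc_not_le h hk)
  have hi : ∀ m i, i + m = n - 3 → j + 1 ≤ i → Inv τ (gam G i) := by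
    intro m
    induction m with
    | zero => exact fun i e _ => (show i = n - 3 from e) ▸ s.i3
    | succ m ih =>
      intro i e hi x hx
      have xP : x ∈ P := jP (gam_anti (by omega) hx)
      have k : ∀ g ∈ P, ⁅τ x, g⁆ ∈ gam G (i + 1) := fun g hg => by
        obtain ⟨g', hg', rfl⟩ := sur d le_rfl d.mem hg
        rw [← cm d xP hg']
        exact ih (i + 1) (by omega) (by omega) _ (gam_cm hx g')
      have t1 : τ x ∈ gam G 1 := by_contra fun c => by
        obtain ⟨y, y1, y2⟩ := nl j (by omega)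
        refine mc_cm_not h j1 (np h hn s (PC (d.mem x xP)) c j1 (by omega)) y1 y2 ?_
        rw [← commutatorElement_inv]
        exact inv_mem (gam_anti (by omega) (k y (jP y1)))
      by_contra c
      obtain ⟨l, l1, l2, l3, l4⟩ := lev t1 i (by omega) c
      exact mc_cm_not h l1 (e1 h hn s l1 (by omega)) l3 l4 (gam_anti (by omega) (k _ eP))
  refine ⟨j, j1, j4, eq, fun i h1 h2 => ?_⟩
  rcases h1.lt_or_eq with h1 | rfl
  · exact hi (n - 3 - i) i (by omega) h1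
  by_cases c4 : j = n - 4
  · exact c4 ▸ s.i4
  by_cases c6 : n = 6
  · obtain rfl : j = 1 := by omega
    exact six h hn s d c6 (eq.trans (ce h hn s.e2 (eg h hn s))) (hi 1 2 (by omega) le_rfl)
  intro x hx
  refine Pj _ (d.mem x (jP hx)) (by_contra fun c => ?_)
  obtain ⟨y, y1, y2⟩ := nl (j + 1) (by omega)
  obtain ⟨y, hy, rfl⟩ := sur d ((gam_anti (by omega)).trans jP)
    (hi (n - 3 - (j + 1)) (j + 1) (by omega) le_rfl) y1
  refine mc_cm_not h (by omega) (np h hn s (PC (d.mem x (jP hx))) c (l := j + 1) (by omega)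
    (by omega)) y1 y2 ?_
  have yP : y ∈ P := jP (gam_anti (by omega) hy)
  rw [← cm d yP (jP hx)]
  by_cases c3 : j + 3 ≤ n - 3
  · exact hi (n - 3 - (j + 3)) (j + 3) (by omega) (by omega) _ (MX.BL.cg hy hx (by omega))
  · have := MX.BL.cg hy hx (k := n - 1) (by omega)
    rw [mc_bot h le_rfl, mem_bot] at this
    rw [this, show τ 1 = 1 from map_one (ph d)]
    exact one_mem _

end Cfsg.Agent.MQ
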