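import Cfsg.Agent.MQ.D

/-! Piece PA3: weights of the involutory automorphism on the lower central factors. -/

set_option autoImplicit false

namespace Cfsg.Agent.MQ

open Subgroup Cfsg.Agent.H9 Cfsg.Agent.L0
open scoped commutatorElement

universe u
variable {G : Type u} [Group G] {p n : ℕ} {E P : Subgroup G} {τ : G → G} {v1 w v2 u : G}

namespace PA3

/-- `τ` as a homomorphism on `P` -/
def th (d : Dt p E P τ v1 w v2 u) : P →* G :=
  MonoidHom.mk' (fun a => τ a) fun a b => d.hom _ a.2 _ b.2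

theorem tzp (d : Dt p E P τ v1 w v2 u) {a : G} (ha : a ∈ P) (m : ℕ) : τ (a ^ m) = τ a ^ m :=
  map_pow (th d) ⟨a, ha⟩ m

theorem tcm (d : Dt p E P τ v1 w v2 u) {a b : G} (ha : a ∈ P) (hb : b ∈ P) :
    τ ⁅a, b⁆ = ⁅τ a, τ b⁆ :=
  map_commutatorElement (th d) ⟨a, ha⟩ ⟨b, hb⟩

theorem qe {N : Subgroup G} [N.Normal] {a b : G} :
    a⁻¹ * b ∈ N ↔ QuotientGroup.mk' N b = QuotientGroup.mk' N a := by
  rw [eq_comm]; exact QuotientGroup.eq.symm

/-- weight `ε` on the `i`-th factor -/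
def W (τ : G → G) (i : ℕ) (ε : ℤ) : Prop :=
  ∀ a ∈ gam G i, QuotientGroup.mk' (gam G (i + 1)) (τ a) = QuotientGroup.mk' (gam G (i + 1)) a ^ ε

variable [Finite G] [Fact p.Prime]

theorem ord (h : MaxClass p n G) {j : ℕ} (hj : 1 ≤ j) {a : G} (ha : a ∈ gam G j)
    (ha' : a ∉ gam G (j + 1)) : orderOf (QuotientGroup.mk' (gam G (j + 1)) a) = p := by
  have := (Fact.out : p.Prime).two_le
  refine orderOf_eq_prime ?_ fun e => ha' (MX.BL.q1.1 e)
  rw [← map_pow]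
  exact MX.BL.q1.2 (gam_anti (by omega) (mc_up h hj ha))

theorem l1 (h : MaxClass p n G) (d : Dt p E P τ v1 w v2 u) {i : ℕ} (hi : 1 ≤ i) (hP : gam G i ≤ P)
    (iv : Inv τ (gam G (i + 1))) {y : G} (hy : y ∈ gam G i) (hy' : y ∉ gam G (i + 1)) {ε : ℤ}
    (e : QuotientGroup.mk' (gam G (i + 1)) (τ y) = QuotientGroup.mk' (gam G (i + 1)) y ^ ε) :
    W τ i ε := by
  intro a ha
  obtain ⟨m, hm⟩ := mc_lev h hi hy hy' ha
  have e2 := d.hom _ (pow_mem (hP hy) m) _ (hP (gam_anti i.le_succ hm))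
  rw [mul_inv_cancel_left, tzp d (hP hy)] at e2
  rw [e2, map_mul, map_pow, MX.BL.q1.2 (iv _ hm), mul_one, e, qe.1 hm, map_pow, ← zpow_natCast,
    ← zpow_natCast, ← zpow_mul, ← zpow_mul, mul_comm]

theorem step (h : MaxClass p n G) (d : Dt p E P τ v1 w v2 u) {i : ℕ} (hi : 1 ≤ i)
    (hn : i + 1 ≤ n - 1) (hP : gam G i ≤ P) (iv0 : Inv τ (gam G i)) (iv : Inv τ (gam G (i + 1)))
    (hv : v2 ∉ tsc G i) {ε : ℤ} (hw : W τ (i + 1) ε) : W τ i (-ε) := by
  have p2 := (Fact.out : p.Prime).two_le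
  obtain ⟨y, hy, hy'⟩ := SetLike.not_le_iff_exists.1 (mc_not_le h hn)
  obtain ⟨m, hm⟩ := mc_lev h hi hy hy' (iv0 y hy)
  have vE : v2 ∈ E := by rw [d.gen]; exact subset_closure (by simp)
  have vP : v2 ∈ P := d.NP (le_normalizer vE)
  have vi : v2 ^ (p - 1) = v2⁻¹ := by
    rw [eq_inv_iff_mul_eq_one, ← pow_succ, Nat.sub_add_cancel (by omega)]; exact d.ex _ vE
  have c1 := qe.1 (cm_lin hy hm v2 (p - 1))
  rw [vi, ← d.t2, ← tcm d (hP hy) vP, hw _ (gam_cm hy v2), map_pow, ← zpow_natCast,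
    zpow_eq_zpow_iff_modEq, ord h (by omega) (gam_cm hy v2) (mc_cm_not h hi hv hy hy'),
    Int.modEq_iff_dvd] at c1
  refine l1 h d hi hP iv hy hy' ?_
  rw [qe.1 hm, map_pow, ← zpow_natCast, zpow_eq_zpow_iff_modEq, ord h hi hy hy', Int.modEq_iff_dvd]
  have e : -ε - (m : ℤ) = (((m * (p - 1) : ℕ) : ℤ) - ε) - p * m := by
    push_cast [Nat.cast_sub (show 1 ≤ p by omega)]; ring
  rw [e]
  exact dvd_sub c1 (dvd_mul_right _ _)

/-- the exceptional case: `n` is even and `[γ_(n-4), γ_1] ≠ 1` -/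
theorem exc {r : ℕ} (h : MaxClass p (r + 6) G) {v : G} (e1 : v ∉ tsc G 1) (e2 : v ∈ tsc G (r + 3)) :
    Even r ∧ ∃ a ∈ gam G (r + 2), ∃ b ∈ gam G 1, ⁅a, b⁆ ≠ 1 := by
  obtain ⟨x, hx⟩ := exists_good _ h
  obtain ⟨g, -, hg⟩ : ∃ g ∈ gam G 0, ⁅g, x⁆ ∉ gam G (0 + 1 + 1) := by
    by_contra! c; exact hx 0 (by omega) c
  have hg2 : g ∈ tsc G 1 ⊔ zpowers x := by rw [mc_tsc_max h le_rfl (hx 1 (by omega))]; trivial
  obtain ⟨y0, hy0, _, ⟨k, rfl⟩, rfl⟩ := (mem_sup_of_normal_left).1 hg2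
  have h4 : ∀ u v : G, ⁅u * v, x⁆ = u * ⁅v, x⁆ * u⁻¹ * ⁅u, x⁆ := fun u v => by
    simp only [commutatorElement_def]; group
  have h0 : ⁅y0, x⁆ ∉ gam G 2 := by
    have : ⁅x ^ k, x⁆ = 1 := commutatorElement_eq_one_iff_commute.2 ((Commute.refl x).zpow_left k)
    dsimp only at hg
    rwa [h4, this, mul_one, mul_inv_cancel, one_mul] at hg
  have nl : ¬ tsc G 1 ≤ tsc G (r + 3) := fun c =>
    mc_tsc_ne h (j := r + 3) (by omega)
      (eq_top_iff.2 ((mc_tsc_max h le_rfl e1).ge.trans (sup_le c (zpowers_le.2 e2))))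
  obtain ⟨z, hz, hz'⟩ := SetLike.not_le_iff_exists.1 nl
  obtain ⟨y, hy, hy1, hy2⟩ : ∃ y ∈ tsc G 1, ⁅y, x⁆ ∉ gam G 2 ∧ y ∉ tsc G (r + 3) := by
    by_cases c1 : y0 ∈ tsc G (r + 3)
    · by_cases c2 : ⁅z, x⁆ ∈ gam G 2
      · refine ⟨y0 * z, mul_mem hy0 hz, ?_, fun c => hz' ((mul_mem_cancel_left c1).1 c)⟩
        rwa [h4, mul_mem_cancel_left (Normal.conj_mem inferInstance _ c2 y0)]
      · exact ⟨z, hz, c2, hz'⟩
    · exact ⟨y0, hy0, h0, c1⟩
  have hyj : ∀ j, 1 ≤ j → j < r + 3 → y ∈ tsc G j := fun j j1 j2 => by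
    rw [MX.bl h j1 (by omega)]; exact hy
  have t1 : eng y x (r + 3) ∉ gam G (r + 3 + 1) := by
    have := hx.eng_not h (j := 1) (i := r + 2) le_rfl (gam_cm (i := 0) (mem_top y) x) hy1 (by omega)
    rwa [← eng_succ, show 1 + (r + 2) + 1 = r + 3 + 1 by omega] at this
  have En : ∀ b a, a + b = r + 3 → ⁅eng y x a, eng y x b⁆ ∉ gam G (r + 3 + 1 + 1) := by
    intro b
    induction b with
    | zero =>
      intro a ha
      obtain rfl : a = r + 3 := ha
      exact mc_cm_not h (by omega) hy2 (MX.BL.em y x _) t1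
    | succ b ih =>
      intro a ha c
      have h1 := MX.BL.derx y x a b (r + 3) (by omega)
      rw [MX.BL.q1.2 (gam_cm (gam_anti (by omega) (MX.BL.one hyj b a (by omega))) x),
        MX.BL.q1.2 c, mul_one] at h1
      exact ih (a + 1) (by omega) (MX.BL.q1.1 h1)
  refine ⟨?_, _, MX.BL.em y x (r + 2), _, MX.BL.em y x 1, fun c => En 1 (r + 2) rfl (c ▸ one_mem _)⟩
  rcases Nat.even_or_odd r with hk | ⟨k, hk⟩
  · exact hk
  · exact (En (k + 2) (k + 2) (by omega) (by rw [commutatorElement_self]; exact one_mem _)).elim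

end PA3

theorem top_inv (d : Dt p E ⊤ τ v1 w v2 u) (i : ℕ) : Inv τ (gam G i) := by
  induction i with
  | zero => exact fun _ _ => mem_top _
  | succ i ih =>
    let f : G →* G := MonoidHom.mk' τ fun a b => d.hom _ (mem_top a) _ (mem_top b)
    have : ⁅gam G i, (⊤ : Subgroup G)⁆ ≤ (gam G (i + 1)).comap f := commutator_le.2 fun a ha b _ => by
      rw [mem_comap, map_commutatorElement]
      exact gam_cm (ih a ha) _
    exact fun x hx => this hx

theorem top_inv' (d : Dt p E P τ v1 w v2 u) (hP : P = ⊤) (i : ℕ) : Inv τ (gam G i) := by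
  subst hP
  exact top_inv d i

open PA3 in
theorem pa3 [Finite G] [Fact p.Prime] (h : MaxClass p n G) (hp : 5 ≤ p) (d : Dt p E P τ v1 w v2 u)
    (hn : 6 ≤ n) (s : SA n E τ v1 w v2) (hP : gam G 1 ≤ P)
    (inv : ∀ i, 1 ≤ i → i ≤ n - 3 → Inv τ (gam G i)) : False := by
  obtain ⟨r, rfl⟩ : ∃ r, n = r + 6 := ⟨n - 6, by omega⟩
  obtain ⟨e1, e2, z2, vz, -, -, -, y, hy, hy', hy2⟩ := s
  rw [show r + 6 - 3 = r + 3 by omega] at e2 z2 hy' hy2 inv
  rw [show r + 6 - 2 = r + 4 by omega] at vz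
  rw [show r + 6 - 4 = r + 2 by omega] at hy
  have gP : ∀ i, 1 ≤ i → gam G i ≤ P := fun i hi => (gam_anti hi).trans hP
  have w0 : W τ (r + 2) 1 :=
    l1 h d (by omega) (gP _ (by omega)) (inv _ (by omega) le_rfl) hy hy' (by
      rw [zpow_one]; exact qe.1 hy2)
  have wk : ∀ k i, 1 ≤ i → i + k = r + 2 → W τ i ((-1) ^ k) := by
    intro k
    induction k with
    | zero => intro i _ hi; obtain rfl : i = r + 2 := hi; rw [pow_zero]; exact w0
    | succ k ih =>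
      intro i i1 hi
      rw [pow_succ, mul_neg_one]
      refine step h d i1 (by omega) (gP _ i1) (inv _ i1 (by omega)) (inv _ (by omega) (by omega)) ?_
        (ih _ (by omega) (by omega))
      rw [MX.bl h i1 (by omega)]; exact e1
  obtain ⟨ev, a, ha, b, hb, ab⟩ := exc h e1 e2
  have w1 := wk (r + 1) 1 le_rfl (by omega)
  rw [ev.add_one.neg_one_pow] at w1
  have bot : ∀ x ∈ gam G (r + 5), x = 1 := fun x hx => by
    rwa [mc_bot h (by omega), mem_bot] at hx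
  have ga : a⁻¹ * τ a ∈ gam G (r + 2 + 1) := qe.2 (by rw [w0 a ha, zpow_one])
  have gb : b⁻¹⁻¹ * τ b ∈ gam G (1 + 1) := qe.2 (by rw [w1 b hb, map_inv, zpow_neg, zpow_one])
  have zc : ⁅a, b⁆ ∈ gam G (r + 4) := MX.BL.cg ha hb (by omega)
  have cz : ∀ x ∈ gam G (r + 4), ∀ g, Commute x g := fun x hx g =>
    commutatorElement_eq_one_iff_commute.1 (bot _ (gam_cm hx g))
  have tz : τ ⁅a, b⁆ = ⁅a, b⁆⁻¹ := by
    have k1 : Commute (a⁻¹ * τ a) (τ b) :=
      commutatorElement_eq_one_iff_commute.1 (bot _ (MX.BL.cg ga (inv 1 le_rfl (by omega) b hb) (by omega)))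
    have k2 : Commute a (b⁻¹⁻¹ * τ b) :=
      commutatorElement_eq_one_iff_commute.1 (bot _ (MX.BL.cg ha gb (by omega)))
    have k3 := (cz _ zc b).inv_left
    rw [tcm d (gP _ (by omega) ha) (hP hb)]
    generalize τ a = A at *
    generalize τ b = B at *
    have q1 : ⁅A, B⁆ = a * (a⁻¹ * A * B) * (a⁻¹ * A)⁻¹ * a⁻¹ * B⁻¹ := by
      simp only [commutatorElement_def]; group
    rw [k1.eq] at q1
    have q2 : ⁅A, B⁆ = a * b⁻¹ * a⁻¹ * (a * (b⁻¹⁻¹ * B)) * a⁻¹ * B⁻¹ := by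
      rw [q1]; group
    rw [k2.eq] at q2
    have q3 : ⁅A, B⁆ = b⁻¹ * (⁅a, b⁆⁻¹ * b) := by
      rw [q2]; simp only [commutatorElement_def]; group
    rw [q3, k3.eq, inv_mul_cancel_left]
  have v1g : v1 ∈ gam G (r + 3) := by rw [← z2]; exact subset_closure (by simp)
  have wg : w ∈ gam G (r + 3) := by rw [← z2]; exact subset_closure (by simp)
  obtain ⟨m, hm⟩ := mc_lev h (by omega) v1g vz wg
  obtain ⟨k, hk⟩ := mc_lev h (j := r + 4) (by omega) zc (fun c => ab (bot _ c)) hm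
  have ew : w = v1 ^ m * ⁅a, b⁆ ^ k := by
    have := bot _ hk
    rw [inv_mul_eq_one, eq_inv_mul_iff_mul_eq] at this
    exact this.symm
  have tw := d.hom _ (pow_mem (gP _ (by omega) v1g) m) _ (pow_mem (gP _ (by omega) zc) k)
  rw [← ew, d.tw, tzp d (gP _ (by omega) v1g), tzp d (gP _ (by omega) zc), d.t1, tz, inv_pow, inv_pow,
    ← mul_inv_rev, (cz _ (pow_mem zc k) _).eq, ← ew] at tw
  have wE : w ∈ E := by rw [d.gen]; exact subset_closure (by simp)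
  have vE : v1 ∈ E := by rw [d.gen]; exact subset_closure (by simp)
  have w2 : w ^ 2 = 1 := by rw [pow_two]; exact mul_eq_one_iff_eq_inv.2 tw
  have hw1 : w = 1 := by
    have o1 := orderOf_dvd_of_pow_eq_one w2
    have o2 := orderOf_dvd_of_pow_eq_one (d.ex _ wE)
    have o3 : Nat.Coprime 2 p := (Nat.coprime_primes Nat.prime_two Fact.out).2 (by omega)
    exact orderOf_eq_one_iff.1 (Nat.eq_one_of_dvd_coprimes o3 o1 o2)
  have le : gam G (r + 3) ≤ zpowers v1 := by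
    rw [← z2, closure_le]
    rintro x (rfl | rfl)
    · exact mem_zpowers _
    · rw [hw1]; exact one_mem _
  have c1 := card_le_of_le le
  rw [h.card_lcs (by omega) (by omega), Nat.card_zpowers, show r + 6 - 1 - (r + 3) = 2 by omega] at c1
  have c2 := Nat.le_of_dvd (by omega) (orderOf_dvd_of_pow_eq_one (d.ex _ vE))
  nlinarith

end Cfsg.Agent.MQ
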