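import Cfsg.Agent.MQ.D
import Cfsg.Agent.H1.Basic

set_option autoImplicit false

namespace Cfsg.Agent.MQ

open Subgroup Cfsg.Agent.H9 Cfsg.Agent.L0
open scoped commutatorElement

universe u
variable {G : Type u} [Group G] [Finite G] {p n : ℕ} [hp' : Fact p.Prime]

namespace PA4

theorem step {H K : Subgroup G} {a : ℕ} (hH : H.index = p ^ a) (le : H ≤ K) {x : G} (hx : x ∈ K)
    (hx' : x ∉ H) : ∃ b, b < a ∧ K.index = p ^ b := by
  obtain ⟨b, hb, e⟩ := (Nat.dvd_prime_pow hp'.out).1 (hH ▸ index_dvd_of_le le)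
  refine ⟨b, lt_of_le_of_ne hb ?_, e⟩
  rintro rfl
  have := relIndex_mul_index le
  rw [hH, e, mul_eq_right₀ (pow_pos hp'.out.pos b).ne', relIndex_eq_one] at this
  exact hx' (this hx)

theorem cm_not (h : MaxClass p n G) (hn : 4 ≤ n) {y v : G} (hy : y ∈ tsc G 1) (hy' : y ∉ gam G 1)
    (hv : v ∉ tsc G 1) : ⁅y, v⁆ ∉ gam G 2 := by
  intro c
  obtain ⟨a, ha, e1⟩ := step (K := gam G 1 ⊔ zpowers y) (h.index_lcs (i := 1) le_rfl (by omega))
    le_sup_left (mem_sup_right (mem_zpowers y)) hy'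
  obtain ⟨b, hb, e2⟩ := step (K := (gam G 1 ⊔ zpowers y) ⊔ zpowers v) e1
    le_sup_left (mem_sup_right (mem_zpowers v))
    (fun k => hv ((sup_le (MX.g1_le 1) ((zpowers_le).2 hy)) k))
  rw [show b = 0 by omega, pow_zero, index_eq_one] at e2
  let f := QuotientGroup.mk' (gam G 2)
  have top : ∀ D : Subgroup G, gam G 1 ≤ D → y ∈ D → v ∈ D → ∀ g, g ∈ D := fun D h1 h2 h3 g =>
    (sup_le (sup_le h1 (zpowers_le.2 h2)) (zpowers_le.2 h3)) (e2 ▸ mem_top g)
  have cen : ∀ a : G, Commute (f y) (f a) → Commute (f v) (f a) → ∀ g, Commute (f g) (f a) :=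
    fun a h2 h3 g => mem_centralizer_singleton_iff.1
      (top ((centralizer {f a}).comap f)
        (fun x hx => mem_centralizer_singleton_iff.2 (MX.BL.cz hx (f a)).eq)
        (mem_centralizer_singleton_iff.2 h2.eq) (mem_centralizer_singleton_iff.2 h3.eq) g)
  have cyv : Commute (f y) (f v) := MX.BL.cq c
  have all : ∀ a g, Commute (f g) (f a) := fun a =>
    cen a (cen y (Commute.refl _) cyv.symm a).symm (cen v cyv (Commute.refl _) a).symm
  refine mc_not_le h (j := 1) (by omega) (commutator_le.2 fun a _ b _ => ?_)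
  have : f ⁅a, b⁆ = 1 := by
    rw [map_commutatorElement, commutatorElement_eq_one_iff_commute]
    exact all b a
  exact MX.BL.q1.1 this

end PA4

variable {E P : Subgroup G} {τ : G → G} {v1 w v2 u : G}

theorem pa4 (h : MaxClass p n G) (hp : 5 ≤ p) (d : Dt p E P τ v1 w v2 u) (hn : 6 ≤ n)
    (s : SA n E τ v1 w v2) {j : ℕ} (h2 : 2 ≤ j) (hj : j ≤ n - 4)
    (hP : P = gam G j ⊔ zpowers v2) (inv : ∀ i, j ≤ i → i ≤ n - 3 → Inv τ (gam G i)) :
    P ≠ ⊤ ∧ Chn p P τ := by
  have v1E : v1 ∈ E := d.gen ▸ subset_closure (by simp)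
  have v2E : v2 ∈ E := d.gen ▸ subset_closure (by simp)
  have EP : E ≤ P := le_normalizer.trans d.NP
  have p2 : ∀ x ∈ P, x ∈ gam G 1 → x ∈ gam G 2 := by
    intro x hx hx1
    rw [hP] at hx
    obtain ⟨z, hz, _, ⟨k, rfl⟩, rfl⟩ := mem_sup_of_normal_left.1 hx
    have hz2 : z ∈ gam G 2 := gam_anti h2 hz
    have hk : v2 ^ k ∈ tsc G 1 :=
      MX.g1_le 1 ((mul_mem_cancel_left (gam_anti (by omega) hz2)).1 hx1)
    by_cases e : v2 ^ k = 1
    · simpa [e] using hz2
    · exfalso
      apply s.e1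
      have o : orderOf v2 = p := orderOf_eq_prime (d.ex v2 v2E) (fun e' => e (by rw [e', one_zpow]))
      have c : Nat.card (zpowers v2) = p := by rw [Nat.card_zpowers, o]
      haveI : Fact (Nat.card (zpowers v2)).Prime := ⟨c ▸ hp'.out⟩
      rcases ((tsc G 1).subgroupOf (zpowers v2)).eq_bot_or_eq_top_of_prime_card with k' | k'
      · have : (⟨v2 ^ k, k, rfl⟩ : zpowers v2) ∈ (tsc G 1).subgroupOf (zpowers v2) := hk
        rw [k', mem_bot] at this
        exact absurd (congrArg Subtype.val this) e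
      · have : (⟨v2, mem_zpowers v2⟩ : zpowers v2) ∈ (tsc G 1).subgroupOf (zpowers v2) :=
          k' ▸ mem_top _
        exact this
  have NC : normalizer (P : Set G) ≤ tsc G (n - 3) := by
    intro g hg
    by_contra hc
    obtain ⟨y, hy, _, ⟨k, rfl⟩, rfl⟩ :=
      mem_sup_of_normal_left.1 ((mc_tsc_max h le_rfl s.e1).ge (mem_top g))
    have yN : y ∈ normalizer (P : Set G) :=
      (mul_mem_cancel_right (le_normalizer (zpow_mem (EP v2E) k))).1 hg
    have y1 : y ∉ gam G 1 := fun e => hc (mul_mem (MX.g1_le _ e) (zpow_mem s.e2 k))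
    refine PA4.cm_not h (by omega) hy y1 s.e1 (p2 _ ?_ (gam_cm (i := 0) (mem_top y) v2))
    rw [commutatorElement_def]
    exact mul_mem ((mem_normalizer_iff.1 yN v2).1 (EP v2E)) (inv_mem (EP v2E))
  have t1 : τ 1 = 1 := by
    have := d.hom 1 (one_mem _) 1 (one_mem _)
    rw [mul_one] at this
    exact left_eq_mul.1 this
  have v1z : v1 ∈ gam G (n - 3) := s.z2 ▸ subset_closure (by simp)
  have o1 : Nat.card (zpowers v1) = p := by
    rw [Nat.card_zpowers, orderOf_eq_prime (d.ex v1 v1E) (fun e => s.vz (e ▸ one_mem _))]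
  have iv1 : Inv τ (zpowers v1) := by
    intro x hx
    obtain ⟨k, rfl⟩ := (mem_powers_iff_mem_zpowers.2 hx)
    show τ (v1 ^ k) ∈ _
    clear hx
    induction k with
    | zero => rw [pow_zero, t1]; exact one_mem _
    | succ k ih =>
      rw [pow_succ, d.hom _ (pow_mem (EP v1E) k) _ (EP v1E), d.t1]
      exact mul_mem ih (inv_mem (mem_zpowers v1))
  have nv1 : normalizer (P : Set G) ≤ normalizer (zpowers v1 : Set G) := by
    intro g hg
    have := NC hg v1 v1z
    rw [mc_bot h (by omega), mem_bot, commutatorElement_eq_one_iff_commute] at this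
    refine centralizer_le_normalizer _ (fun x hx => ?_)
    obtain ⟨k, rfl⟩ := hx
    exact (this.zpow_left k).eq
  refine ⟨fun e => mc_not_le h (j := 1) (by omega) fun x hx => p2 x (e ▸ mem_top x) hx, ?_⟩
  let e : ℕ → Subgroup G := fun m =>
    if m ≤ n - 3 then gam G m else if m = n - 2 then zpowers v1 else ⊥
  have eg : ∀ m, m ≤ n - 3 → e m = gam G m := fun m hm => if_pos hm
  have ez : ∀ m, m = n - 2 → e m = zpowers v1 := fun m hm => by
    simp only [e]; rw [if_neg (by omega), if_pos hm]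
  have eb : ∀ m, n - 2 < m → e m = ⊥ := fun m hm => by
    simp only [e]; rw [if_neg (by omega), if_neg (by omega)]
  refine ⟨fun i => Nat.casesOn i P (fun i => e (j + i)), n + 1, rfl, eb _ (by omega), fun i => ?_⟩
  cases i with
  | zero =>
    show e (j + 0) ≤ P ∧ Nat.card P ≤ p * Nat.card (e (j + 0)) ∧ Inv τ P ∧ _ ≤ normalizer (P : Set G)
    rw [eg _ (by omega), add_zero]
    refine ⟨hP ▸ le_sup_left, ?_, d.mem, le_rfl⟩
    rw [hP, mul_comm]
    refine (Nat.le_of_dvd (mul_pos Nat.card_pos Nat.card_pos)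
      (H1.card_sup_dvd le_normalizer_of_normal)).trans (Nat.mul_le_mul_left _ ?_)
    rw [Nat.card_zpowers]
    exact orderOf_le_of_pow_eq_one hp'.out.pos (d.ex v2 v2E)
  | succ i =>
    show e (j + (i + 1)) ≤ e (j + i) ∧ Nat.card (e (j + i)) ≤ p * Nat.card (e (j + (i + 1))) ∧
      Inv τ (e (j + i)) ∧ _ ≤ normalizer (e (j + i) : Set G)
    rcases lt_trichotomy (j + i) (n - 3) with c | c | c
    · rw [eg _ (by omega), eg _ (by omega)]
      exact ⟨gam_anti (by omega), mc_card_le h (by omega), inv _ (by omega) (by omega),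
        le_normalizer_of_normal⟩
    · rw [ez (j + (i + 1)) (by omega), eg _ (by omega), c]
      refine ⟨zpowers_le.2 v1z, ?_, s.i3, le_normalizer_of_normal⟩
      have := mc_card_le h (j := n - 3) (by omega)
      rw [show n - 3 + 1 = n - 2 by omega, MX.cz1 h] at this
      rwa [o1]
    · rw [eb (j + (i + 1)) (by omega)]
      by_cases c2 : j + i = n - 2
      · rw [ez _ c2]
        exact ⟨bot_le, by rw [o1]; simp, iv1, nv1⟩
      · rw [eb _ (by omega)]
        refine ⟨le_rfl, by simpa using hp'.out.one_le, fun x hx => ?_, le_normalizer_of_normal⟩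
        rw [mem_bot.1 hx, t1]; exact one_mem _

end Cfsg.Agent.MQ
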