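import Cfsg.Agent.MQ.D

/-! Piece PB: the case where the second centre is not contained in `E`. -/

set_option autoImplicit false

namespace Cfsg.Agent.MQ

open Subgroup Cfsg.Agent.H9 Cfsg.Agent.L0
open Cfsg.Agent.H23.LF (sup_zp_of_card mul_card_le' eq_of_card_le)
open scoped commutatorElement

universe u

namespace PB

section pure
variable {Q : Type*} [Group Q]

theorem inv_step (A S T g : Q) (hg : ∀ z, Commute g z) (hT : Commute A T)
    (hc : ∀ z, Commute ⁅A, S⁆ z) : ⁅A⁻¹ * g, S * T⁆ = ⁅A, S⁆⁻¹ := by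
  have h1 : ⁅A⁻¹ * g, S * T⁆ = A⁻¹ * (g * (S * T) * g⁻¹) * A * (S * T)⁻¹ := by
    simp only [commutatorElement_def]; group
  have h2 : g * (S * T) * g⁻¹ = S * T := by rw [(hg _).eq]; group
  have h3 : A⁻¹ * (S * T) * A * (S * T)⁻¹ = A⁻¹ * S * (T * A) * T⁻¹ * S⁻¹ := by group
  have h4 : A⁻¹ * S * (A * T) * T⁻¹ * S⁻¹ = A⁻¹ * (⁅A, S⁆⁻¹ * A) := by
    simp only [commutatorElement_def]; group
  rw [h1, h2, h3, ← hT.eq, h4, (hc A).inv_left.eq, inv_mul_cancel_left]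

end pure

variable {G : Type u} [Group G] {p : ℕ} {E P : Subgroup G} {τ : G → G} {v1 w v2 u : G}

section tau
variable (d : Dt p E P τ v1 w v2 u)
include d

theorem t1 : τ 1 = 1 := by
  have := d.hom 1 (one_mem _) 1 (one_mem _)
  rw [mul_one] at this
  exact left_eq_mul.1 this

theorem tinv {x : G} (hx : x ∈ P) : τ x⁻¹ = (τ x)⁻¹ := by
  have := d.hom x⁻¹ (inv_mem hx) x hx
  rw [inv_mul_cancel, t1 d] at this
  exact eq_inv_of_mul_eq_one_left this.symm

theorem tcm {x y : G} (hx : x ∈ P) (hy : y ∈ P) : τ ⁅x, y⁆ = ⁅τ x, τ y⁆ := by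
  simp only [commutatorElement_def]
  rw [d.hom _ (mul_mem (mul_mem hx hy) (inv_mem hx)) _ (inv_mem hy),
    d.hom _ (mul_mem hx hy) _ (inv_mem hx), d.hom _ hx _ hy, tinv d hx, tinv d hy]

/-- preimage of `X` under `τ` -/
def pre (X : Subgroup G) : Subgroup G where
  carrier := {x | x ∈ P ∧ τ x ∈ X}
  one_mem' := ⟨one_mem _, by rw [t1 d]; exact one_mem _⟩
  mul_mem' := fun {a b} ha hb => ⟨mul_mem ha.1 hb.1, by
    rw [d.hom _ ha.1 _ hb.1]; exact mul_mem ha.2 hb.2⟩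
  inv_mem' := fun {a} ha => ⟨inv_mem ha.1, by rw [tinv d ha.1]; exact inv_mem ha.2⟩

/-- elements on which `τ` acts trivially modulo the normal subgroup `X` -/
def fx (X : Subgroup G) [X.Normal] : Subgroup G where
  carrier := {x | x ∈ P ∧ x⁻¹ * τ x ∈ X}
  one_mem' := ⟨one_mem _, by rw [t1 d]; simp⟩
  mul_mem' := fun {a b} ha hb => ⟨mul_mem ha.1 hb.1, by
    rw [d.hom _ ha.1 _ hb.1, show (a * b)⁻¹ * (τ a * τ b) = b⁻¹ * (a⁻¹ * τ a) * b⁻¹⁻¹ * (b⁻¹ * τ b) by group]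
    exact mul_mem (Normal.conj_mem inferInstance _ ha.2 _) hb.2⟩
  inv_mem' := fun {a} ha => ⟨inv_mem ha.1, by
    rw [tinv d ha.1, show a⁻¹⁻¹ * (τ a)⁻¹ = a * (a⁻¹ * τ a)⁻¹ * a⁻¹ by group]
    exact Normal.conj_mem inferInstance _ (inv_mem ha.2) _⟩

theorem surj [Finite G] {X : Subgroup G} (hX : X ≤ P) (hi : Inv τ X) {y : G} (hy : y ∈ X) :
    ∃ x ∈ X, τ x = y := by
  have : Function.Injective (fun x : X => (⟨τ x, hi _ x.2⟩ : X)) := fun a b e =>
    Subtype.ext (d.inj _ (hX a.2) _ (hX b.2) (congrArg Subtype.val e))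
  obtain ⟨x, hx⟩ := Finite.injective_iff_surjective.1 this ⟨y, hy⟩
  exact ⟨x, x.2, congrArg Subtype.val hx⟩

theorem vE : v1 ∈ E ∧ w ∈ E ∧ v2 ∈ E := by
  rw [d.gen]
  exact ⟨subset_closure (by simp), subset_closure (by simp), subset_closure (by simp)⟩

theorem fxN [Finite G] [hp : Fact p.Prime] (hG : IsPGroup p G) (hE : Inv τ E) {x : G}
    (hx : x ∈ normalizer (E : Set G)) : x⁻¹ * τ x ∈ E := by
  have hN : E ⊔ zpowers u = normalizer (E : Set G) :=
    sup_zp_of_card (hG.to_subgroup _) le_normalizer (by rw [d.cN, d.cE, pow_succ']) d.uN d.uE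
  let K : Subgroup G :=
    { carrier := {x | x ∈ normalizer (E : Set G) ∧ x⁻¹ * τ x ∈ E}
      one_mem' := ⟨one_mem _, by rw [t1 d]; simp⟩
      mul_mem' := fun {a b} ha hb => ⟨mul_mem ha.1 hb.1, by
        rw [d.hom _ (d.NP ha.1) _ (d.NP hb.1),
          show (a * b)⁻¹ * (τ a * τ b) = b⁻¹ * (a⁻¹ * τ a) * b⁻¹⁻¹ * (b⁻¹ * τ b) by group]
        exact mul_mem ((mem_normalizer_iff.1 (inv_mem hb.1) _).1 ha.2) hb.2⟩
      inv_mem' := fun {a} ha => ⟨inv_mem ha.1, by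
        rw [tinv d (d.NP ha.1), show a⁻¹⁻¹ * (τ a)⁻¹ = a * (a⁻¹ * τ a)⁻¹ * a⁻¹ by group]
        exact (mem_normalizer_iff.1 ha.1 _).1 (inv_mem ha.2)⟩ }
  have : E ⊔ zpowers u ≤ K :=
    sup_le (fun e he => ⟨le_normalizer he, mul_mem (inv_mem he) (hE e he)⟩) (zpowers_le.2 ⟨d.uN, d.tu⟩)
  exact (this (hN.ge hx)).2

end tau

/-- structure in case PB -/
structure SB (m : ℕ) (E : Subgroup G) (v1 w v2 : G) : Prop where
  e1 : v2 ∈ tsc G 1
  e2 : v2 ∉ tsc G (m + 3)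
  z : gam G (m + 4) = zpowers v1
  nE : gam G (m + 2) ⊔ zpowers v2 = normalizer (E : Set G)
  nC : ∀ x ∈ normalizer (E : Set G), x ∈ tsc G (m + 3) → x ∈ gam G (m + 2)
  e0 : closure ({v1, w} : Set G) ≤ gam G (m + 2)
  cj : ∀ g ∈ tsc G 1, g * v2 * g⁻¹ ∈ E → g ∈ normalizer (E : Set G)
  cj0 : ∀ g ∈ tsc G 1, ∀ e ∈ closure ({v1, w} : Set G), g * e * g⁻¹ ∈ closure ({v1, w} : Set G)

variable [Finite G] [hp : Fact p.Prime] {m : ℕ}

theorem cg (h : MaxClass p (m + 6) G) (i j : ℕ) (hi : 1 ≤ i) (hj : i + j = m + 5) :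
    Nat.card (gam G i) = p ^ j := by
  rw [h.card_lcs hi (by omega), show m + 6 - 1 - i = j by omega]

theorem sb (h : MaxClass p (m + 6) G) (d : Dt p E P τ v1 w v2 u) (a : A0 p E τ v1 w)
    (hZ : ¬ gam G (m + 3) ≤ E) : SB m E v1 w v2 := by
  obtain ⟨c0, hz0, hcm, hv1, iE, iN, i0, -, hY, hX⟩ := a
  obtain ⟨m1, mw, m2⟩ := vE d
  have p1 := hp.out.one_lt
  have hb : gam G (m + 5) = ⊥ := mc_bot h (by omega)
  have hC : ∀ g, g ∈ tsc G (m + 3) ↔ ∀ x ∈ gam G (m + 3), x * g = g * x := fun g => by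
    show (∀ x ∈ gam G (m + 3), ⁅x, g⁆ ∈ gam G (m + 5)) ↔ _
    simp only [hb, mem_bot, commutatorElement_eq_one_iff_mul_comm]
  have hEC : ¬ E ≤ tsc G (m + 3) := fun e => hZ fun x hx => (d.cen x).2 fun y hy => ((hC y).1 (e hy) x hx).symm
  have ab : ∀ x ∈ E, ∀ y ∈ E, x * y = y * x := fun x hx y hy => (d.cen y).1 hy x hx
  have ng : ∀ s ∈ E, s ∉ tsc G 1 → s ∉ tsc G (m + 3) → False := fun s hs a b => by
    have g : L0.Good (m + 6) s := fun j hj => by
      rcases Nat.eq_zero_or_pos j with rfl | j0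
      · exact fun e => a (tsc_zero_le e)
      by_cases e : j = m + 3
      · rwa [e]
      · rwa [MX.bl h j0 (by omega)]
    have := card_le_of_le (fun x hx => mem_centralizer_singleton_iff.2 (ab x hx s hs) : E ≤ centralizer {s})
    rw [MX.gc h g, d.cE, Nat.pow_le_pow_iff_right p1] at this
    omega
  have hE1 : E ≤ tsc G 1 := fun x hx => by
    by_contra c
    obtain ⟨e, he, he'⟩ := SetLike.not_le_iff_exists.1 hEC
    have x2 : x ∈ tsc G (m + 3) := by_contra fun c' => ng x hx c c'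
    have e1 : e ∈ tsc G 1 := by_contra fun c' => ng e he c' he'
    exact ng (x * e) (mul_mem hx he) (fun k => c ((mul_mem_cancel_right e1).1 k))
      (fun k => he' ((mul_mem_cancel_left x2).1 k))
  have hZE : gam G (m + 4) ≤ E := fun z hz => (d.cen z).2 fun y _ => by
    have := gam_cm hz y
    rw [hb, mem_bot, commutatorElement_eq_one_iff_mul_comm] at this
    exact this.symm
  have hZ0 := hY _ inferInstance hZE
  have t2 : tsc G (m + 2) = tsc G 1 := MX.bl h (by omega) (by omega)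
  have c4 : ∀ x ∈ gam G (m + 2), ∀ g ∈ tsc G 1, ⁅x, g⁆ ∈ gam G (m + 4) := fun x hx g hg => (t2.ge hg) x hx
  have hgN : gam G (m + 2) ≤ normalizer (E : Set G) := fun x hx =>
    mem_normalizer_fintype fun e he => by
      rw [show x * e * x⁻¹ = ⁅x, e⁆ * e by simp [commutatorElement_def]]
      exact mul_mem (hZE (c4 x hx e (hE1 he))) he
  have h0C : closure ({v1, w} : Set G) ≤ tsc G (m + 3) := fun x hx => (hC x).2 fun y hy =>
    (((hz0 x).1 hx).2 y (hgN (gam_anti (by omega) hy))).symm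
  have e2 : v2 ∉ tsc G (m + 3) := fun e => hEC (by
    rw [d.gen, closure_le]
    rintro x (rfl | rfl | rfl)
    · exact h0C (subset_closure (by simp))
    · exact h0C (subset_closure (by simp))
    · exact e)
  have cle : Nat.card (normalizer (E : Set G)) ≤ p * Nat.card (gam G (m + 2)) := by
    rw [d.cN, cg h (m + 2) 3 (by omega) (by omega), pow_succ']
  have g2C : gam G (m + 2) ≤ tsc G (m + 3) := (gam_anti (by omega)).trans (MX.g1_le _)
  have nE : gam G (m + 2) ⊔ zpowers v2 = normalizer (E : Set G) :=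
    sup_zp_of_card (h.isPGroup.to_subgroup _) hgN cle (le_normalizer m2) fun e => e2 (g2C e)
  have nC : ∀ x ∈ normalizer (E : Set G), x ∈ tsc G (m + 3) → x ∈ gam G (m + 2) := fun x hx hx' => by
    by_contra c
    have := sup_zp_of_card (h.isPGroup.to_subgroup _) hgN cle hx c
    exact e2 ((sup_le g2C (zpowers_le.2 hx')) (this.ge (le_normalizer m2)))
  have e0 : closure ({v1, w} : Set G) ≤ gam G (m + 2) := fun x hx => nC x ((hz0 x).1 hx).1 (h0C hx)
  have cj0 : ∀ g ∈ tsc G 1, ∀ e ∈ closure ({v1, w} : Set G), g * e * g⁻¹ ∈ closure ({v1, w} : Set G) :=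
    fun g hg e he => by
      rw [show g * e * g⁻¹ = ⁅e, g⁆⁻¹ * e by simp only [commutatorElement_def]; group]
      exact mul_mem (inv_mem (hZ0 (c4 e (e0 he) g hg))) he
  have h0E : closure ({v1, w} : Set G) ≤ E := by
    rw [closure_le]
    rintro x (rfl | rfl)
    exacts [m1, mw]
  refine ⟨hE1 m2, e2, ?_, nE, nC, e0, fun g hg hv => mem_normalizer_fintype fun e he => ?_, cj0⟩
  · have hv : v1 ∈ gam G (m + 4) := by
      obtain ⟨y, hy, _, ⟨k, rfl⟩, e⟩ := mem_sup_of_normal_left.1 (nE.ge d.uN)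
      have : ⁅v2, y * v2 ^ k⁆ = ⁅y, v2⁆⁻¹ := by
        simp only [commutatorElement_def]; group
      rw [← d.c1, ← e]
      dsimp only
      rw [this]
      exact inv_mem (c4 y hy v2 (hE1 m2))
    have := sup_zp_of_card (A := ⊥) (h.isPGroup.to_subgroup _) bot_le
      (by rw [cg h (m + 4) 1 (by omega) (by omega)]; simp) hv (by simpa using hv1)
    rw [← this, bot_sup_eq]
  · have : E ≤ E.comap (MulAut.conj g).toMonoidHom := by
      conv_lhs => rw [d.gen]
      rw [closure_le]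
      rintro x (rfl | rfl | rfl)
      · exact h0E (cj0 g hg _ (subset_closure (by simp)))
      · exact h0E (cj0 g hg _ (subset_closure (by simp)))
      · exact hv
    exact this he

theorem e0E (d : Dt p E P τ v1 w v2 u) : closure ({v1, w} : Set G) ≤ E := by
  obtain ⟨m1, mw, -⟩ := vE d
  rw [closure_le]
  rintro x (rfl | rfl)
  exacts [m1, mw]

omit [Finite G] hp in
theorem z0 (s : SB m E v1 w v2) : gam G (m + 4) ≤ closure ({v1, w} : Set G) := by
  rw [s.z]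
  exact zpowers_le.2 (subset_closure (by simp))

theorem ext (h : MaxClass p (m + 6) G) (d : Dt p E P τ v1 w v2 u) (s : SB m E v1 w v2) :
    ∃ y ∈ gam G (m + 1), ⁅y, v2⁆ ∈ gam G (m + 3) ∧ ⁅y, v2⁆ ∉ E := by
  obtain ⟨y, hy, hy'⟩ := SetLike.not_le_iff_exists.1 (mc_not_le h (j := m + 1) (by omega))
  have y1 : y ∈ gam G 1 := gam_anti (by omega) hy
  have t1 : tsc G (m + 1) = tsc G 1 := MX.bl h (by omega) (by omega)
  refine ⟨y, hy, (t1.ge s.e1) y hy, fun e => hy' (s.nC y (s.cj y (MX.g1_le _ y1) ?_) (MX.g1_le _ y1))⟩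
  rw [show y * v2 * y⁻¹ = ⁅y, v2⁆ * v2 by simp [commutatorElement_def]]
  exact mul_mem e (vE d).2.2

theorem m0 (h : MaxClass p (m + 6) G) (d : Dt p E P τ v1 w v2 u) (a : A0 p E τ v1 w)
    (s : SB m E v1 w v2) : m = 0 := by
  by_contra m0
  obtain ⟨y, hy, t3, tE⟩ := ext h d s
  obtain ⟨x, hx, hx'⟩ := SetLike.not_le_iff_exists.1 (mc_not_le h (j := m) (by omega))
  have x1 : x ∈ gam G 1 := gam_anti (by omega) hx
  have y1 : y ∈ gam G 1 := gam_anti (by omega) hy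
  have tm : tsc G m = tsc G 1 := MX.bl h (by omega) (by omega)
  have t1 : tsc G (m + 1) = tsc G 1 := MX.bl h (by omega) (by omega)
  have c2 : ⁅x, v2⁆ ∈ gam G (m + 2) := (tm.ge s.e1) x hx
  have hs : closure ({v1, w} : Set G) ⊔ zpowers ⁅y, v2⁆ = gam G (m + 2) :=
    sup_zp_of_card (h.isPGroup.to_subgroup _) s.e0
      (by rw [a.1, cg h (m + 2) 3 (by omega) (by omega), pow_succ']) (gam_anti (by omega) t3)
      fun e => tE (e0E d e)
  have nt : ⁅y, v2⁆ ∈ normalizer ((closure ({v1, w} : Set G) : Subgroup G) : Set G) :=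
    mem_normalizer_fintype fun e he => s.cj0 _ (MX.g1_le _ (gam_anti (by omega) t3)) e he
  obtain ⟨e, he, k, hk⟩ := H23.LF.mem_sup_zp nt (hs.ge c2)
  obtain ⟨j, hj⟩ := mem_powers_iff_mem_zpowers.2 (zpow_mem_zpowers ⁅y, v2⁆ k)
  dsimp only at hj
  rw [← hj] at hk
  have hz : ∀ j : ℕ, (⁅y, v2⁆ ^ j)⁻¹ * ⁅y ^ j, v2⁆ ∈ gam G (m + 4) := fun j => by
    induction j with
    | zero => simp
    | succ j ih =>
      have c3 : ⁅y ^ j, v2⁆ ∈ gam G (m + 3) := (t1.ge s.e1) _ (pow_mem hy j)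
      have c5 : ⁅⁅y ^ j, v2⁆, y⁆ ∈ gam G (m + 4) := gam_cm c3 y
      have c6 : ⁅⁅y ^ j, v2⁆, ⁅y, v2⁆⁆ ∈ gam G (m + 4) := gam_cm c3 _
      have : (⁅y, v2⁆ ^ (j + 1))⁻¹ * ⁅y ^ (j + 1), v2⁆ =
          ⁅y, v2⁆⁻¹ * ((⁅y, v2⁆ ^ j)⁻¹ * ⁅y ^ j, v2⁆ *
            (⁅y ^ j, v2⁆⁻¹ * ⁅⁅y ^ j, v2⁆, y⁆⁻¹ * ⁅y ^ j, v2⁆⁻¹⁻¹)) * ⁅y, v2⁆⁻¹⁻¹ := by
        rw [pow_succ, pow_succ' y]
        generalize ⁅y, v2⁆ ^ j = T
        generalize y ^ j = Y
        simp only [commutatorElement_def]; group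
      rw [this]
      exact Normal.conj_mem inferInstance _ (mul_mem ih (Normal.conj_mem inferInstance _ (inv_mem c5) _)) _
  have yj : (y ^ j)⁻¹ ∈ tsc G 1 := inv_mem (pow_mem (MX.g1_le _ y1) j)
  have hN : (y ^ j)⁻¹ * x ∈ normalizer (E : Set G) := by
    refine s.cj _ (mul_mem yj (MX.g1_le _ x1)) ?_
    have : (y ^ j)⁻¹ * x * v2 * ((y ^ j)⁻¹ * x)⁻¹ =
        (y ^ j)⁻¹ * (e * (⁅y, v2⁆ ^ j * ((⁅y, v2⁆ ^ j)⁻¹ * ⁅y ^ j, v2⁆)⁻¹ * (⁅y, v2⁆ ^ j)⁻¹)) * (y ^ j)⁻¹⁻¹ * v2 := by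
      have e1 : e = ⁅x, v2⁆ * (⁅y, v2⁆ ^ j)⁻¹ := by rw [hk]; group
      rw [e1]
      generalize ⁅y, v2⁆ ^ j = T
      generalize y ^ j = Y
      simp only [commutatorElement_def]; group
    rw [this]
    exact mul_mem (e0E d (s.cj0 _ yj _ (mul_mem he (z0 s (Normal.conj_mem inferInstance _ (inv_mem (hz j)) _)))))
      (vE d).2.2
  have := s.nC _ hN (MX.g1_le _ (mul_mem (inv_mem (pow_mem y1 j)) x1))
  exact hx' ((mul_mem_cancel_left (inv_mem (pow_mem hy j))).1 (gam_anti (by omega) this))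

theorem cP1 (h : MaxClass p 6 G) : Nat.card (tsc G 1) ≤ p * Nat.card (gam G 1) := by
  have := mul_card_le' (h.isPGroup.to_subgroup ⊤) (lt_top_iff_ne_top.2 (mc_tsc_ne h (j := 1) (by omega)))
  rw [card_top, h.card] at this
  rw [cg (m := 0) h 1 4 le_rfl rfl]
  refine Nat.le_of_mul_le_mul_left (this.trans (le_of_eq (by ring))) hp.out.pos

theorem P1eq (h : MaxClass p 6 G) (s : SB 0 E v1 w v2) : gam G 1 ⊔ zpowers v2 = tsc G 1 :=
  sup_zp_of_card (h.isPGroup.to_subgroup _) (MX.g1_le 1) (cP1 h) s.e1 fun e => s.e2 (MX.g1_le _ e)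

theorem a1 (h : MaxClass p 6 G) (s : SB 0 E v1 w v2) {g : G} (hg : g ∉ tsc G 1) : ⁅v2, g⁆ ∉ gam G 2 := fun c => by
  have : ⊤ ≤ (centralizer {QuotientGroup.mk' (gam G 2) g}).comap (QuotientGroup.mk' (gam G 2)) := by
    refine (mc_tsc_max h le_rfl hg).ge.trans
      (sup_le ((P1eq h s).ge.trans (sup_le (fun x hx => ?_) (zpowers_le.2 ?_))) (zpowers_le.2 ?_))
    · exact mem_centralizer_singleton_iff.2 (MX.BL.cz hx _).eq
    · exact mem_centralizer_singleton_iff.2 (MX.BL.cq c).eq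
    · exact mem_centralizer_singleton_iff.2 rfl
  refine hg (tsc_zero_le fun x _ => ?_)
  have h1 := mem_centralizer_singleton_iff.1 (this (mem_top x))
  refine MX.BL.q1.1 ?_
  rw [map_commutatorElement]
  exact commutatorElement_eq_one_iff_mul_comm.2 h1

theorem cm3 (h : MaxClass p 6 G) (s : SB 0 E v1 w v2) {x y : G} (hx : x ∈ tsc G 1) (hy : y ∈ tsc G 1) :
    ⁅x, y⁆ ∈ gam G 3 := by
  have k : ∀ g ∈ tsc G 1, (∀ z ∈ gam G 1 ⊔ zpowers v2, ⁅z, g⁆ ∈ gam G 3) ↔ ⁅v2, g⁆ ∈ gam G 3 := fun g hg =>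
    ⟨fun e => e _ (mem_sup_right (mem_zpowers _)), fun e z hz => by
      have : gam G 1 ⊔ zpowers v2 ≤
          (centralizer {QuotientGroup.mk' (gam G 3) g}).comap (QuotientGroup.mk' (gam G 3)) :=
        sup_le (fun x hx => mem_centralizer_singleton_iff.2 (MX.BL.cq (hg x hx)).eq)
          (zpowers_le.2 (mem_centralizer_singleton_iff.2 (MX.BL.cq e).eq))
      refine MX.BL.q1.1 ?_
      rw [map_commutatorElement]
      exact commutatorElement_eq_one_iff_mul_comm.2 (mem_centralizer_singleton_iff.1 (this hz))⟩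
  refine (k y hy).2 ?_ x ((P1eq h s).ge hx)
  rw [← commutatorElement_inv]
  exact inv_mem ((k v2 s.e1).2 (by simp) y ((P1eq h s).ge hy))

theorem g3E (h : MaxClass p 6 G) (d : Dt p E P τ v1 w v2 u) (s : SB 0 E v1 w v2) {x : G}
    (hx : x ∈ gam G 3) (hE : x ∈ E) : x ∈ gam G 4 := by
  by_contra c
  obtain ⟨y, -, t3, tE⟩ := ext (m := 0) h d s
  have := sup_zp_of_card (h.isPGroup.to_subgroup _) (gam_anti (by omega : 3 ≤ 4)) (mc_card_le h (by omega)) hx c
  exact tE (sup_le ((z0 s).trans (e0E d)) (zpowers_le.2 hE) (this.ge t3))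

theorem ntop (h : MaxClass p 6 G) (hp5 : 5 ≤ p) (d : Dt p E ⊤ τ v1 w v2 u) (a : A0 p E τ v1 w)
    (s : SB 0 E v1 w v2) : False := by
  have iE := a.2.2.2.2.1
  have ig : ∀ i, Inv τ (gam G i) := fun i => by
    induction i with
    | zero => exact fun x _ => mem_top _
    | succ i ih =>
      have : gam G (i + 1) ≤ pre d (gam G (i + 1)) := commutator_le.2 fun x hx y _ =>
        ⟨mem_top _, by rw [tcm d (mem_top _) (mem_top _)]; exact gam_cm (ih x hx) _⟩
      exact fun x hx => (this hx).2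
  have g2N : gam G 2 ≤ normalizer (E : Set G) := le_sup_left.trans s.nE.le
  have f3 : ∀ x ∈ gam G 3, x⁻¹ * τ x ∈ gam G 4 := fun x hx =>
    g3E h d s (mul_mem (inv_mem hx) (ig 3 x hx)) (fxN d h.isPGroup iE (g2N (gam_anti (by omega) hx)))
  have w2 : w ∈ gam G 2 := s.e0 (subset_closure (by simp))
  have w3 : w ∉ gam G 3 := fun e => by
    have h4 := g3E h d s e (vE d).2.1
    have : closure ({v1, w} : Set G) ≤ gam G 4 := by
      rw [closure_le]
      rintro x (rfl | rfl)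
      · exact s.z.ge (mem_zpowers _)
      · exact h4
    have := card_le_of_le this
    rw [a.1, cg (m := 0) h 4 1 (by omega) rfl, Nat.pow_le_pow_iff_right hp.out.one_lt] at this
    omega
  have f2 : ∀ x ∈ gam G 2, x⁻¹ * τ x ∈ gam G 3 := fun x hx => by
    have := sup_zp_of_card (h.isPGroup.to_subgroup _) (gam_anti (by omega : 2 ≤ 3)) (mc_card_le h (by omega)) w2 w3
    have h2 : gam G 3 ⊔ zpowers w ≤ fx d (gam G 3) :=
      sup_le (fun x hx => ⟨mem_top _, mul_mem (inv_mem hx) (ig 3 x hx)⟩)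
        (zpowers_le.2 ⟨mem_top _, by rw [d.tw]; simp⟩)
    exact (h2 (this.ge hx)).2
  have t2 : tsc G 2 = tsc G 1 := MX.bl h (by omega) (by omega)
  obtain ⟨g, -, hg⟩ := SetLike.not_le_iff_exists.1 fun e => mc_tsc_ne h (j := 1) (by omega) (eq_top_iff.2 e)
  have ht : g⁻¹ * τ g ∈ tsc G 1 := by
    by_contra c
    rw [← t2] at c
    refine mc_cm_not h (by omega) c w2 w3 ?_
    have := f3 _ (gam_cm w2 g)
    rw [tcm d (mem_top _) (mem_top _), d.tw] at this
    have := Normal.conj_mem inferInstance _ this g⁻¹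
    convert this using 1
    simp only [commutatorElement_def]; group
  have tg : τ g = g * (g⁻¹ * τ g) := by group
  generalize g⁻¹ * τ g = t at ht tg
  have b1 : ⁅v2, g⁆ ∈ gam G 1 := gam_cm (i := 0) (mem_top _) g
  have n1 := a1 h s hg
  have k1 : ⁅v2, g⁆ * τ ⁅v2, g⁆ ∈ gam G 2 := by
    refine MX.BL.q1.1 ?_
    rw [tcm d (mem_top _) (mem_top _), d.t2, tg, map_mul, map_commutatorElement _ v2⁻¹, map_mul, map_inv,
      ← mul_one (QuotientGroup.mk' (gam G 2) v2)⁻¹,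
      inv_step _ _ _ 1 Commute.one_left (MX.BL.cq (gam_anti (by omega : 2 ≤ 3) (cm3 h s s.e1 ht)))
        (by rw [← map_commutatorElement]; exact MX.BL.cz b1), map_commutatorElement, mul_inv_cancel]
  generalize ⁅v2, g⁆ = b at b1 n1 k1
  have b2 : ⁅b, g⁆ ∈ gam G 2 := gam_cm b1 g
  have n2 : ⁅b, g⁆ ∉ gam G 3 := mc_cm_not h le_rfl hg b1 n1
  have tb : τ b = b⁻¹ * (b * τ b) := by group
  generalize b * τ b = c at k1 tb
  have k2 : ⁅b, g⁆ * τ ⁅b, g⁆ ∈ gam G 3 := by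
    refine MX.BL.q1.1 ?_
    rw [tcm d (mem_top _) (mem_top _), tb, tg, map_mul, map_commutatorElement _ (b⁻¹ * c), map_mul, map_mul, map_inv,
      inv_step _ _ _ _ (MX.BL.cz k1) (MX.BL.cq (ht b b1))
        (by rw [← map_commutatorElement]; exact MX.BL.cz b2), map_commutatorElement, mul_inv_cancel]
  have k3 := f2 _ b2
  generalize ⁅b, g⁆ = z at b2 n2 k2 k3
  have k4 : z ^ 2 ∈ gam G 3 := by
    have := mul_mem k2 (inv_mem k3)
    convert this using 1
    rw [sq]; group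
  have k5 : z ^ p ∈ gam G 3 := gam_anti (by omega) (mc_up h (by omega) b2)
  obtain ⟨k, hk⟩ := hp.out.odd_of_ne_two (by omega)
  rw [hk, pow_succ, pow_mul] at k5
  exact n2 ((mul_mem_cancel_left (pow_mem k4 k)).1 k5)

omit [Finite G] hp in
theorem chn_list (d : Dt p E P τ v1 w v2 u) (l : List (Subgroup G))
    (hc : List.IsChain (fun A B : Subgroup G => B ≤ A ∧ Nat.card A ≤ p * Nat.card B) (P :: l ++ [⊥]))
    (hp1 : 1 ≤ p)
    (hi : ∀ X ∈ l, Inv τ X ∧ normalizer (P : Set G) ≤ normalizer (X : Set G)) : Chn p P τ := by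
  refine ⟨fun i => (P :: l ++ [⊥]).getD i ⊥, l.length + 1, rfl, by simp, fun i => ?_⟩
  have ib : Inv τ (⊥ : Subgroup G) := fun x hx => by rw [mem_bot.1 hx, t1 d]; exact one_mem _
  have nb : normalizer (P : Set G) ≤ normalizer ((⊥ : Subgroup G) : Set G) := le_normalizer_of_normal
  have key : ∀ X ∈ P :: l ++ [⊥], Inv τ X ∧ normalizer (P : Set G) ≤ normalizer (X : Set G) := by
    intro X hX
    simp only [List.cons_append, List.mem_cons, List.mem_append, List.not_mem_nil, or_false] at hX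
    rcases hX with rfl | hX | rfl
    exacts [⟨d.mem, le_rfl⟩, hi X hX, ⟨ib, nb⟩]
  have hlast : ∀ i, (P :: l ++ [⊥]).length ≤ i + 1 → (P :: l ++ [⊥]).getD i ⊥ = ⊥ := fun i hi => by
    rcases hi.eq_or_lt with e | e
    · have : i = l.length + 1 := by simp at e; omega
      subst this; simp
    · exact List.getD_eq_default _ _ (by omega)
  by_cases c : i + 1 < (P :: l ++ [⊥]).length
  · have h1 := List.isChain_iff_getElem.1 hc i c
    dsimp only
    rw [List.getD_eq_getElem _ _ c, List.getD_eq_getElem _ _ (by omega : i < _)]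
    exact ⟨h1.1, h1.2, key _ (List.getElem_mem _)⟩
  · dsimp only
    rw [hlast i (by omega), hlast (i + 1) (by omega)]
    exact ⟨le_rfl, Nat.le_mul_of_pos_left _ hp1, ib, nb⟩

theorem six (h : MaxClass p 6 G) (hp5 : 5 ≤ p) (d : Dt p E P τ v1 w v2 u) (a : A0 p E τ v1 w)
    (s : SB 0 E v1 w v2) : P ≠ ⊤ ∧ Chn p P τ := by
  have hPt : P ≠ ⊤ := fun e => by
    subst e
    exact ntop h hp5 d a s
  refine ⟨hPt, ?_⟩
  obtain ⟨c0, hz0, hcm, hv1, iE, iN, i0, -, hY, hX⟩ := a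
  have c1 := cg (m := 0) h 1 4 (by omega) rfl
  have c2 := cg (m := 0) h 2 3 (by omega) rfl
  have c3 := cg (m := 0) h 3 2 (by omega) rfl
  have c4 := cg (m := 0) h 4 1 (by omega) rfl
  have g2N : gam G 2 ≤ normalizer (E : Set G) := le_sup_left.trans s.nE.le
  have i2 : Inv τ (gam G 2) := hX _ g2N s.e0 c2 le_normalizer_of_normal
  have v1P : v1 ∈ P := d.NP (le_normalizer (vE d).1)
  have v2P : v2 ∈ P := d.NP (le_normalizer (vE d).2.2)
  have i4' : gam G 4 ≤ pre d (gam G 4) := s.z.le.trans (zpowers_le.2 ⟨v1P, by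
    rw [d.t1]; exact inv_mem (s.z.ge (mem_zpowers _))⟩)
  have i4 : Inv τ (gam G 4) := fun x hx => (i4' hx).2
  have N1 : normalizer (E : Set G) ≤ tsc G 1 :=
    s.nE.ge.trans (sup_le ((gam_anti (by omega)).trans (MX.g1_le _)) (zpowers_le.2 s.e1))
  have PP1 : P ≤ tsc G 1 := fun g hg => by
    by_contra c
    have : ∃ g ∈ P, g ∉ tsc G 1 ∧ g ∉ tsc G 3 := by
      by_cases e : g ∈ tsc G 3
      · exact ⟨g * v2, mul_mem hg v2P, fun k => c ((mul_mem_cancel_right s.e1).1 k),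
          fun k => s.e2 ((mul_mem_cancel_left e).1 k)⟩
      · exact ⟨g, hg, c, e⟩
    obtain ⟨g, hg, n1, n3⟩ := this
    have gd : L0.Good 6 g := fun j hj => by
      rcases Nat.eq_zero_or_pos j with rfl | j0
      · exact fun e => n1 (tsc_zero_le e)
      by_cases e : j = 3
      · rwa [e]
      · rwa [MX.bl h j0 (by omega)]
    have b1 : ⁅v2, g⁆ ∈ gam G 1 := gam_cm (i := 0) (mem_top _) g
    have l1 : gam G 1 ≤ P := gd.le_of h hg le_rfl b1 (a1 h s n1)
      (mul_mem (mul_mem (mul_mem v2P hg) (inv_mem v2P)) (inv_mem hg))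
    exact hPt (eq_top_iff.2 ((mc_tsc_max h le_rfl n1).ge.trans
      (sup_le ((P1eq h s).ge.trans (sup_le l1 (zpowers_le.2 v2P))) (zpowers_le.2 hg))))
  rcases d.NP.eq_or_lt with e | e
  · refine chn_list d [gam G 2, closure {v1, w}, gam G 4] ?_ (by omega) ?_
    · simp only [List.cons_append, List.nil_append, List.isChain_cons_cons, List.isChain_singleton, and_true]
      refine ⟨⟨g2N.trans e.le, ?_⟩, ⟨s.e0, ?_⟩, ⟨z0 s, ?_⟩, bot_le, ?_⟩
      · rw [← e, d.cN, c2, pow_succ']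
      · rw [c2, c0, pow_succ']
      · rw [c4, c0, pow_succ']
      · rw [c4]; simp
    · intro X hX
      simp only [List.mem_cons, List.not_mem_nil, or_false] at hX
      rcases hX with rfl | rfl | rfl
      · exact ⟨i2, le_normalizer_of_normal⟩
      · refine ⟨i0, fun g hg => mem_normalizer_fintype fun x hx => ?_⟩
        rw [← e] at hg
        obtain ⟨x1, x2⟩ := (hz0 x).1 hx
        refine (hz0 _).2 ⟨(mem_normalizer_iff.1 hg x).1 x1, fun y hy => ?_⟩
        have := x2 _ ((mem_normalizer_iff.1 (inv_mem hg) y).1 hy)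
        calc g * x * g⁻¹ * y = g * (x * (g⁻¹ * y * g⁻¹⁻¹)) * g⁻¹ := by group
          _ = y * (g * x * g⁻¹) := by rw [this]; group
      · exact ⟨i4, le_normalizer_of_normal⟩
  · have eP : P = tsc G 1 := eq_of_card_le (h.isPGroup.to_subgroup _) e PP1
      ((cP1 h).trans (by rw [c1, d.cN]))
    have g1P : gam G 1 ≤ P := (MX.g1_le _).trans eP.ge
    have i3 : Inv τ (gam G 3) := by
      obtain ⟨y, hy, t3, tE⟩ := ext (m := 0) h d s
      have := sup_zp_of_card (h.isPGroup.to_subgroup _) (gam_anti (by omega : 3 ≤ 4)) (mc_card_le h (by omega)) t3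
        fun k => tE ((z0 s).trans (e0E d) k)
      have h2 : gam G 4 ⊔ zpowers ⁅y, v2⁆ ≤ pre d (gam G 3) :=
        sup_le (fun x hx => ⟨(i4' hx).1, gam_anti (by omega) (i4 x hx)⟩) (zpowers_le.2
          ⟨g1P (gam_anti (by omega) t3), by
            rw [tcm d (g1P hy) v2P]
            exact cm3 h s (PP1 (d.mem _ (g1P hy))) (PP1 (d.mem _ v2P))⟩)
      exact fun x hx => (h2 (this.ge hx)).2
    have i1 : Inv τ (gam G 1) := fun x hx => by
      by_contra c
      have e1 := sup_zp_of_card (h.isPGroup.to_subgroup _) (MX.g1_le 1) (cP1 h) (PP1 (d.mem _ (g1P hx))) c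
      have hb : gam G 5 = ⊥ := mc_bot h (by omega)
      have : τ x ∈ tsc G 3 := fun y hy => by
        obtain ⟨z, hz, rfl⟩ := surj d ((gam_anti (by omega)).trans g1P) i3 hy
        have h5 : ⁅z, x⁆ ∈ gam G 5 := MX.g1_le 3 hx z hz
        rw [hb, mem_bot] at h5
        rw [← tcm d (g1P (gam_anti (by omega) hz)) (g1P hx), h5, t1 d]
        exact one_mem _
      exact s.e2 (sup_le (MX.g1_le 3) (zpowers_le.2 this) (e1.ge s.e1))
    refine chn_list d [gam G 1, gam G 2, gam G 3, gam G 4] ?_ (by omega) ?_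
    · simp only [List.cons_append, List.nil_append, List.isChain_cons_cons, List.isChain_singleton, and_true]
      refine ⟨⟨g1P, by rw [eP]; exact cP1 h⟩, ⟨gam_anti (by omega), mc_card_le h (by omega)⟩,
        ⟨gam_anti (by omega), mc_card_le h (by omega)⟩, ⟨gam_anti (by omega), mc_card_le h (by omega)⟩, bot_le, ?_⟩
      rw [c4]; simp
    · intro X hX
      simp only [List.mem_cons, List.not_mem_nil, or_false] at hX
      rcases hX with rfl | rfl | rfl | rfl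
      exacts [⟨i1, le_normalizer_of_normal⟩, ⟨i2, le_normalizer_of_normal⟩, ⟨i3, le_normalizer_of_normal⟩,
        ⟨i4, le_normalizer_of_normal⟩]

end PB

theorem pb {G : Type u} [Group G] [Finite G] {p n : ℕ} [Fact p.Prime] {E P : Subgroup G} {τ : G → G}
    {v1 w v2 u : G} (h : MaxClass p n G) (hp : 5 ≤ p) (d : Dt p E P τ v1 w v2 u) (hn : 6 ≤ n)
    (a : A0 p E τ v1 w) (hZ : ¬ gam G (n - 3) ≤ E) : P ≠ ⊤ ∧ Chn p P τ := by
  obtain ⟨m, rfl⟩ : ∃ m, n = m + 6 := ⟨n - 6, by omega⟩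
  have s := PB.sb h d a hZ
  obtain rfl := PB.m0 h d a s
  exact PB.six h hp d a s

end Cfsg.Agent.MQ
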