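import Cfsg.Agent.MQ.A0
import Cfsg.Agent.MQ.P5
import Cfsg.Agent.MQ.PA1
import Cfsg.Agent.MQ.PA2
import Cfsg.Agent.MQ.PA3
import Cfsg.Agent.MQ.PA4

set_option autoImplicit false

namespace Cfsg.Agent.MQ

open Subgroup Cfsg.Agent.H9 Cfsg.Agent.L0

universe u
variable {G : Type u} [Group G] [Finite G] {p n : ℕ} [hp' : Fact p.Prime]
variable {E P : Subgroup G} {τ : G → G} {v1 w v2 u : G}

theorem pg0 (h : MaxClass p n G) (hp : 5 ≤ p) (d : Dt p E P τ v1 w v2 u) (hn : 5 ≤ n)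
    (pb : 6 ≤ n → A0 p E τ v1 w → ¬ gam G (n - 3) ≤ E → P ≠ ⊤ ∧ Chn p P τ) :
    P ≠ ⊤ ∧ Chn p P τ := by
  have a := a0 h hp d hn
  rcases hn.eq_or_lt with e | e
  · exact p5 h hp d e.symm a
  by_cases hZ : gam G (n - 3) ≤ E
  swap
  · exact pb e a hZ
  have s := pa1 h hp d e a hZ
  rcases pa2 h hp d e s with k | ⟨j, h1, hj, hP, inv⟩
  · exact (pa3 h hp d e s (k ▸ le_top) (fun i _ _ => top_inv' d k i)).elim
  · rcases h1.eq_or_lt with rfl | h2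
    · exact (pa3 h hp d e s (hP ▸ le_sup_left) inv).elim
    · exact pa4 h hp d e s h2 hj hP inv

end Cfsg.Agent.MQ
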